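import Cfsg.Agent.Lib.Clifford.Degrees
import Cfsg.Agent.Lib.BlockB.OverTheta

/-!
# Degrees avoiding a product of two primes

Preliminaries for Pálfy's three primes theorem.
-/

set_option autoImplicit false

namespace CfsgLib.BlockB.Palfy

open CfsgLib CfsgLib.Clifford

universe u v

/-- No irreducible degree is divisible by the product `p * q`. -/
def Avoid (p q : ℕ) (G : Type u) [Group G] : Prop :=
  ∀ χ : G → ℂ, Cfsg.IsIrrCharacter G χ → ¬ p * q ∣ Cfsg.charDegree χ

section

variable {G : Type u} [Group G] {p q : ℕ}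

theorem Avoid.symm (h : Avoid p q G) : Avoid q p G := fun χ hχ hd => h χ hχ (mul_comm q p ▸ hd)

theorem Avoid.of_normal [Finite G] (h : Avoid p q G) (N : Subgroup G) [N.Normal] : Avoid p q N := by
  intro θ hθ hd
  have := Fintype.ofFinite G
  have := Fintype.ofFinite N
  obtain ⟨χ, hχ, hne⟩ := Degrees.exists_over N hθ
  exact h χ hχ ((hd.mul_left _).trans (Degrees.index_inertia_mul_dvd N hθ hχ hne))

theorem charDegree_comp_surjective [Finite G] {H : Type v} [Group H] (f : G →* H)
    (hf : Function.Surjective f) {ψ : H → ℂ} (hψ : Cfsg.IsIrrCharacter H ψ) :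
    Cfsg.charDegree (ψ ∘ f) = Cfsg.charDegree ψ := by
  have e : (Cfsg.charDegree (ψ ∘ f) : ℂ) = (Cfsg.charDegree ψ : ℂ) := by
    rw [BlockB.charDegree_cast (Char.irr_isCharacter (Char.isIrrCharacter_comp_surjective hψ f hf)),
      BlockB.charDegree_cast (Char.irr_isCharacter hψ), Function.comp_apply, map_one]
  exact_mod_cast e

theorem Avoid.quotient [Finite G] (h : Avoid p q G) (N : Subgroup G) [N.Normal] :
    Avoid p q (G ⧸ N) := by
  intro ψ hψ hd
  have hs := QuotientGroup.mk'_surjective N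
  exact h _ (Char.isIrrCharacter_comp_surjective hψ _ hs)
    (by rwa [charDegree_comp_surjective _ hs hψ])

theorem Avoid.of_surjective [Finite G] {H : Type v} [Group H] (h : Avoid p q G) (f : G →* H)
    (hf : Function.Surjective f) : Avoid p q H := fun ψ hψ hd =>
  h _ (Char.isIrrCharacter_comp_surjective hψ f hf) (by rwa [charDegree_comp_surjective f hf hψ])

/-- The inertia index avoids the product. -/
theorem Avoid.not_dvd_index_inertia [Finite G] (h : Avoid p q G) (N : Subgroup G) [N.Normal]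
    {θ : N → ℂ} (hθ : Cfsg.IsIrrCharacter N θ) :
    ¬ p * q ∣ (inertia θ).index * Cfsg.charDegree θ := fun hd => by
  have := Fintype.ofFinite G
  have := Fintype.ofFinite N
  obtain ⟨χ, hχ, hne⟩ := Degrees.exists_over N hθ
  exact h χ hχ (hd.trans (Degrees.index_inertia_mul_dvd N hθ hχ hne))

/-- A normal abelian Sylow subgroup makes the prime prime to all degrees. -/
theorem primeTo_of_sylow [Finite G] [Fact p.Prime] (P : Sylow p G) (hn : (P : Subgroup G).Normal)
    (hc : ∀ x ∈ (P : Subgroup G), ∀ y ∈ (P : Subgroup G), x * y = y * x) :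
    Degrees.PrimeTo p G :=
  haveI := hn
  Degrees.primeTo_of_normal_abelian (P : Subgroup G) hc P.not_dvd_index

/-- Ito's theorem in Sylow form. -/
theorem exists_sylow_of_primeTo [Finite G] [Group.IsSolvable G] [hp : Fact p.Prime]
    (h : Degrees.PrimeTo p G) : ∃ P : Sylow p G, (P : Subgroup G).Normal ∧
      ∀ x ∈ (P : Subgroup G), ∀ y ∈ (P : Subgroup G), x * y = y * x := by
  obtain ⟨P, hPn, hPc, hPp, hPi⟩ :=
    Degrees.exists_normal_sylow hp.out _ G le_rfl inferInstance h
  exact ⟨hPp.toSylow hPi, hPn, hPc⟩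

end

/-- `C` contains a Sylow `p`-subgroup of `H` as an abelian normal subgroup. -/
def StabSylow {H : Type u} [Group H] (p : ℕ) (C : Subgroup H) : Prop :=
  ∃ P : Sylow p H, (P : Subgroup H) ≤ C ∧ C ≤ Subgroup.normalizer ((P : Subgroup H) : Set H) ∧
    ∀ x ∈ (P : Subgroup H), ∀ y ∈ (P : Subgroup H), x * y = y * x

/-- A `p`-subgroup normalising a Sylow `p`-subgroup lies in it. -/
theorem le_sylow_of_le_normalizer {H : Type u} [Group H] [Finite H] {p : ℕ} [Fact p.Prime]
    (P : Sylow p H) {X : Subgroup H} (hX : IsPGroup p X)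
    (h : X ≤ Subgroup.normalizer ((P : Subgroup H) : Set H)) : X ≤ P := by
  have hp : IsPGroup p (↥((P : Subgroup H) ⊔ X)) := P.2.to_sup_of_normal_left' hX h
  exact sup_eq_left.mp (P.3 hp le_sup_left)

/-- Two Sylow subgroups, one in the normaliser of the other, are equal. -/
theorem sylow_eq_of_le_normalizer {H : Type u} [Group H] [Finite H] {p : ℕ} [Fact p.Prime]
    (P P' : Sylow p H) (h : (P' : Subgroup H) ≤ Subgroup.normalizer ((P : Subgroup H) : Set H)) :
    (P' : Subgroup H) = P :=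
  (P'.3 P.2 (le_sylow_of_le_normalizer P P'.2 h)).symm

/-- Prime-degree characters of a subgroup give a Sylow subgroup inside it. -/
theorem stabSylow_of_primeTo {H : Type u} [Group H] [Finite H] [Group.IsSolvable H] {p : ℕ}
    [hp : Fact p.Prime] {C : Subgroup H} (hC : ¬ p ∣ C.index) (h : Degrees.PrimeTo p C) :
    StabSylow p C := by
  obtain ⟨P, hPn, hPc⟩ := exists_sylow_of_primeTo h
  have hp' : IsPGroup p ((P : Subgroup C).map C.subtype) := P.2.map _
  have hi : ¬ p ∣ ((P : Subgroup C).map C.subtype).index := by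
    rw [Subgroup.index_map_subtype]
    exact fun hd => (hp.out.dvd_mul.mp hd).elim P.not_dvd_index hC
  refine ⟨hp'.toSylow hi, Subgroup.map_subtype_le _, fun c hc => ?_, ?_⟩
  · rw [IsPGroup.toSylow_coe, Subgroup.mem_normalizer_iff]
    intro x
    constructor
    · rintro ⟨y, hy, rfl⟩
      exact ⟨⟨c, hc⟩ * y * ⟨c, hc⟩⁻¹, hPn.conj_mem y hy _, rfl⟩
    · rintro ⟨y, hy, hxy⟩
      refine ⟨⟨c, hc⟩⁻¹ * y * ⟨c, hc⟩, by
        have h1 := hPn.conj_mem y hy ⟨c, hc⟩⁻¹
        rwa [inv_inv] at h1, ?_⟩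
      have hxy' : (y : H) = c * x * c⁻¹ := hxy
      simp only [Subgroup.coe_subtype, Subgroup.coe_mul, InvMemClass.coe_inv, hxy']
      group
  · rw [IsPGroup.toSylow_coe]
    rintro _ ⟨x, hx, rfl⟩ _ ⟨y, hy, rfl⟩
    simp only [Subgroup.coe_subtype]
    rw [← Subgroup.coe_mul, ← Subgroup.coe_mul, hPc x hx y hy]

/-- Characters of a complement in the inertia group give characters of the whole group. -/
theorem exists_deg_of_complement {G : Type u} [Group G] [Finite G] {N : Subgroup G} [N.Normal]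
    {θ : N → ℂ} (hθ : Cfsg.IsIrrCharacter N θ) {Θ : inertia θ → ℂ}
    (hΘ : Cfsg.IsCharacter (inertia θ) Θ)
    (hext : ∀ (n : N) (t : inertia θ), (t : G) = n → Θ t = θ n)
    {C : Type v} [Group C] (f : inertia θ →* C) (hf : Function.Surjective f)
    (hfN : ∀ t : inertia θ, (t : G) ∈ N → f t = 1)
    {ψ : C → ℂ} (hψ : Cfsg.IsIrrCharacter C ψ) :
    ∃ χ : G → ℂ, Cfsg.IsIrrCharacter G χ ∧
      Cfsg.charDegree χ = (inertia θ).index * Cfsg.charDegree θ * Cfsg.charDegree ψ := by
  classical
  have := Fintype.ofFinite G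
  have := Fintype.ofFinite N
  have := Fintype.ofFinite (inertia θ)
  have hNT : N ≤ inertia θ := le_inertia (Char.irr_isClassFunction hθ)
  have D : OverTheta.Data (inertia θ) θ Θ :=
    ⟨hθ, fun g => mem_inertia_iff_conjFn, hNT, hΘ, hext⟩
  have hγ := Char.isIrrCharacter_comp_surjective hψ f hf
  have hq : OverTheta.IsQuot N (ψ ∘ f) := fun n t hn => by
    simp only [Function.comp_apply, map_mul, hfN n hn, one_mul]
  have hi := OverTheta.isIrr_ind D hγ hq
  refine ⟨_, hi, ?_⟩
  have e1 : Θ 1 = θ 1 := hext 1 1 rfl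
  have e2 : (Cfsg.charDegree (Cfsg.indFun (inertia θ) (Θ * (ψ ∘ f))) : ℂ) =
      (((inertia θ).index * Cfsg.charDegree θ * Cfsg.charDegree ψ : ℕ) : ℂ) := by
    rw [BlockB.charDegree_cast (Char.irr_isCharacter hi), Char.indFun_apply_one, Nat.cast_mul,
      Nat.cast_mul, BlockB.charDegree_cast (Char.irr_isCharacter hθ),
      BlockB.charDegree_cast (Char.irr_isCharacter hψ), Pi.mul_apply, Function.comp_apply, map_one,
      e1, mul_assoc]
  exact_mod_cast e2

end CfsgLib.BlockB.Palfy
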