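import Cfsg.Agent.Lib.BlockB.Palfy.CoreSetup
import Cfsg.Agent.Lib.ClassK.Zsigmondy

/-!
# The core lemma for Pálfy's theorem
-/

set_option autoImplicit false

namespace CfsgLib.BlockB.Palfy

open CfsgLib CfsgLib.Clifford

universe u v

variable {H : Type u} [Group H] [Finite H]

theorem exists_sylow_le {p : ℕ} [hp : Fact p.Prime] {I : Subgroup H} (h : ¬ p ∣ I.index) :
    ∃ P : Sylow p H, (P : Subgroup H) ≤ I := by
  obtain ⟨S⟩ : Nonempty (Sylow p I) := inferInstance
  have hi : ¬ p ∣ ((S : Subgroup I).map I.subtype).index := by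
    rw [Subgroup.index_map_subtype]
    exact fun hd => (hp.out.dvd_mul.mp hd).elim S.not_dvd_index h
  exact ⟨(S.2.map I.subtype).toSylow hi, Subgroup.map_subtype_le _⟩

variable {W : Type v} [CommGroup W] [MulDistribMulAction H W]

/-- Commuting Sylow subgroups with the properties used in the core lemma exist. -/
theorem exists_setup [Group.IsSolvable H] [Nontrivial W] {p q : ℕ} [Fact p.Prime] [Fact q.Prime]
    (hpq : p ≠ q) (hav : Avoid p q H)
    (hP : ∀ w : W, w ≠ 1 → StabSylow p (MulAction.stabilizer H w))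
    (hQ : ∀ w : W, w ≠ 1 → StabSylow q (MulAction.stabilizer H w)) :
    ∃ (P : Sylow p H) (Q : Sylow q H) (N : Subgroup H), Setup W P Q N := by
  classical
  obtain ⟨w, hw⟩ := exists_ne (1 : W)
  obtain ⟨P, hPw, hPn, hPc⟩ := hP w hw
  obtain ⟨Q, hQw, hQn, hQc⟩ := hQ w hw
  have hdis : Disjoint (P : Subgroup H) (Q : Subgroup H) :=
    IsPGroup.disjoint_of_ne p q hpq _ _ P.2 Q.2
  have hcomm : ∀ a ∈ (P : Subgroup H), ∀ b ∈ (Q : Subgroup H), a * b = b * a := by
    intro a ha b hb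
    have h1 := Subgroup.mem_normalizer_iff.mp (hQn (hPw ha)) b
    have h2 := Subgroup.mem_normalizer_iff.mp (hPn (hQw hb)) a⁻¹
    have h3 : a * b * a⁻¹ * b⁻¹ = 1 := Subgroup.disjoint_def.mp hdis
      (by
        rw [show a * b * a⁻¹ * b⁻¹ = a * (b * a⁻¹ * b⁻¹) by group]
        exact mul_mem ha (h2.mp (inv_mem ha)))
      (mul_mem (h1.mp hb) (inv_mem hb))
    rw [mul_inv_eq_one, mul_inv_eq_iff_eq_mul] at h3
    exact h3
  set A := (P : Subgroup H) ⊔ (Q : Subgroup H) with hA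
  have hAP : A ≤ Subgroup.centralizer ((P : Subgroup H) : Set H) :=
    sup_le (fun a ha => Subgroup.mem_centralizer_iff.mpr fun b hb => hPc b hb a ha)
      (fun b hb => Subgroup.mem_centralizer_iff.mpr fun a ha => hcomm a ha b hb)
  have hAQ : A ≤ Subgroup.centralizer ((Q : Subgroup H) : Set H) :=
    sup_le (fun a ha => Subgroup.mem_centralizer_iff.mpr fun b hb => (hcomm a ha b hb).symm)
      (fun a ha => Subgroup.mem_centralizer_iff.mpr fun b hb => hQc b hb a ha)
  have hAA : ∀ x ∈ A, ∀ y ∈ A, x * y = y * x := by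
    intro x hx y hy
    obtain ⟨a, ha, b, hb, rfl⟩ := mem_sup_of_commute hcomm hy
    rw [← mul_assoc, ← Subgroup.mem_centralizer_iff.mp (hAP hx) a ha, mul_assoc,
      ← Subgroup.mem_centralizer_iff.mp (hAQ hx) b hb, mul_assoc]
  have hprime : ∀ t : ℕ, t.Prime → t ∣ Nat.card A → t = p ∨ t = q := by
    intro t ht htd
    have : Fact t.Prime := ⟨ht⟩
    obtain ⟨⟨x, hx⟩, hxo⟩ := exists_prime_orderOf_dvd_card' t htd
    obtain ⟨a, ha, b, hb, rfl⟩ := mem_sup_of_commute hcomm hx
    obtain ⟨i, hi⟩ := P.2 ⟨a, ha⟩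
    obtain ⟨j, hj⟩ := Q.2 ⟨b, hb⟩
    have hi' : a ^ p ^ i = 1 := congrArg Subtype.val hi
    have hj' : b ^ q ^ j = 1 := congrArg Subtype.val hj
    have hd : t ∣ p ^ i * q ^ j := by
      rw [← hxo, ← orderOf_injective A.subtype A.subtype_injective]
      refine orderOf_dvd_of_pow_eq_one ?_
      rw [Subgroup.coe_subtype, Commute.mul_pow (hcomm a ha b hb), pow_mul, hi', one_pow, one_mul,
        mul_comm, pow_mul, hj', one_pow]
    exact (ht.dvd_mul.mp hd).imp
      (fun h => (Nat.prime_dvd_prime_iff_eq ht Fact.out).mp (ht.dvd_of_dvd_pow h))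
      (fun h => (Nat.prime_dvd_prime_iff_eq ht Fact.out).mp (ht.dvd_of_dvd_pow h))
  set N := Cfsg.piCore {t : ℕ | t ≠ p ∧ t ≠ q} H with hN
  have hcop : (Nat.card N).Coprime (Nat.card A) := Nat.coprime_of_dvd fun t ht h1 h2 => by
    have h3 := OddLocal.piCore_spec _ t ht h1
    exact (hprime t ht h2).elim h3.1 h3.2
  set π := QuotientGroup.mk' N with hπ
  have hs : Function.Surjective π := QuotientGroup.mk'_surjective N
  have hFA : Cfsg.fittingSubgroup (H ⧸ N) ≤ A.map π := by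
    rw [Solvable.fittingSubgroup_eq_iSup_pCore]
    refine iSup_le fun t => ?_
    have : Fact (t : ℕ).Prime := ⟨t.2⟩
    by_cases htp : (t : ℕ) = p
    · rw [htp]
      exact (Solvable.pCore_le_sylow (P.mapSurjective hs)).trans (Subgroup.map_mono le_sup_left)
    by_cases htq : (t : ℕ) = q
    · rw [htq]
      exact (Solvable.pCore_le_sylow (Q.mapSurjective hs)).trans (Subgroup.map_mono le_sup_right)
    intro x hx
    have hle : (Cfsg.pCore (t : ℕ) (H ⧸ N)).comap π ≤ N := by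
      refine OddLocal.le_piCore (Subgroup.Normal.comap (Solvable.pCore_normal _ _) _) ?_
      intro s hs' hsd
      have : Fact s.Prime := ⟨hs'⟩
      obtain ⟨⟨y, hy⟩, hyo⟩ := exists_prime_orderOf_dvd_card' s hsd
      rw [← orderOf_injective _ (Subgroup.subtype_injective _), Subgroup.coe_subtype] at hyo
      by_cases hy1 : π y = 1
      · refine OddLocal.piCore_spec (G := H) _ s hs' ?_
        rw [← hyo]
        exact Subgroup.orderOf_dvd_natCard _ ((QuotientGroup.eq_one_iff y).mp hy1)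
      · obtain ⟨i, hi⟩ := Solvable.pCore_isPGroup (G := H ⧸ N) (t : ℕ) ⟨π y, hy⟩
        have hd : orderOf (π y) ∣ (t : ℕ) ^ i :=
          orderOf_dvd_of_pow_eq_one (congrArg Subtype.val hi)
        have hd' : orderOf (π y) = s :=
          (hs'.eq_one_or_self_of_dvd _ (hyo ▸ orderOf_map_dvd π y)).resolve_left
            fun e => hy1 (orderOf_eq_one_iff.mp e)
        rw [hd'] at hd
        rw [(Nat.prime_dvd_prime_iff_eq hs' t.2).mp (hs'.dvd_of_dvd_pow hd)]
        exact ⟨htp, htq⟩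
    obtain ⟨y, rfl⟩ := hs x
    rw [show π y = 1 from (QuotientGroup.eq_one_iff y).mpr (hle hx)]
    exact one_mem _
  have hAF : A.map π ≤ Subgroup.centralizer (Cfsg.fittingSubgroup (H ⧸ N) : Set (H ⧸ N)) := by
    rintro _ ⟨x, hx, rfl⟩
    refine Subgroup.mem_centralizer_iff.mpr fun f hf => ?_
    obtain ⟨y, hy, rfl⟩ := hFA hf
    rw [← map_mul, ← map_mul, hAA x hx y hy]
  have hKn : (N ⊔ A).Normal := by
    have e : A.map π = Cfsg.fittingSubgroup (H ⧸ N) :=
      le_antisymm (hAF.trans Solvable.centralizer_fittingSubgroup_le) hFA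
    have h1 : ((A.map π).comap π).Normal := by
      rw [e]; exact (Solvable.fittingSubgroup_normal _).comap π
    rwa [Subgroup.comap_map_eq, QuotientGroup.ker_mk', sup_comm] at h1
  have hdec : ∀ k ∈ N ⊔ A, ∃ x ∈ N, ∃ a ∈ A, k = x * a := fun k hk => by
    obtain ⟨x, hx, a, ha, e⟩ := Subgroup.mem_sup_of_normal_left.mp hk
    exact ⟨x, hx, a, ha, e.symm⟩
  refine ⟨P, Q, N, hpq, hcomm, hPc, hQc, hP, hQ, inferInstance, hcop, hKn, ?_⟩
  refine class_cover N _ _ inferInstance inferInstance inferInstance hcomm hcop fun θ hθ => ?_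
  have hNI : N ≤ inertia θ := le_inertia (Char.irr_isClassFunction hθ)
  have key : ∀ {t : ℕ} [Fact t.Prime] (T : Sylow t H), (T : Subgroup H) ≤ A →
      A ≤ Subgroup.centralizer ((T : Subgroup H) : Set H) → ¬ t ∣ (inertia θ).index →
      ∀ a ∈ (T : Subgroup H), ∀ n : N, θ (conjN a n) = θ n := by
    intro t _ T hTA hAT ht a ha
    obtain ⟨T', hT'⟩ := exists_sylow_le ht
    have hle : (T : Subgroup H) ≤ N ⊔ A := hTA.trans le_sup_right
    obtain ⟨x, hx, hxb⟩ := conj_sylow_mem T T' hle (sylow_le_of_normal T T' hle) (X := N)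
      fun k hk => by
        obtain ⟨x, hx, b, hb, e⟩ := hdec k hk
        exact ⟨x, hx, b, Subgroup.centralizer_le_normalizer _ (hAT hb), e⟩
    have h1 : x * a * x⁻¹ ∈ inertia θ := hT' (hxb a ha)
    have h2 : a ∈ inertia θ := by
      rw [show a = x⁻¹ * (x * a * x⁻¹) * x by group]
      exact mul_mem (mul_mem (inv_mem (hNI hx)) h1) (hNI hx)
    exact h2
  by_cases hp' : p ∣ (inertia θ).index
  · refine Or.inr (key Q le_sup_right hAQ fun hq' => ?_)
    exact hav.not_dvd_index_inertia N hθ (Dvd.dvd.mul_right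
      (((Nat.coprime_primes Fact.out Fact.out).mpr hpq).mul_dvd_of_dvd_of_dvd hp' hq') _)
  · exact Or.inl (key P le_sup_left hAP hp')

theorem card_ne_one [Finite W] : Nat.card {w : W // w ≠ 1} + 1 = Nat.card W := by
  have h := card_diff_one (U := (⊤ : Subgroup W))
  rw [Subgroup.card_top, Nat.card_congr (Equiv.subtypeEquivRight
    fun w => and_iff_left (Subgroup.mem_top w))] at h
  exact h

namespace Setup

variable {p q : ℕ} [Fact p.Prime] [Fact q.Prime] {P : Sylow p H} {Q : Sylow q H} {N : Subgroup H}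

/-- The divisibilities between the dimensions of the fixed subspaces. -/
theorem step (S : Setup W P Q N) [Finite W] [Nontrivial W] {ℓ n cA : ℕ} (hℓ : ℓ.Prime)
    (hW : IsPGroup ℓ W) (hn : Nat.card W = ℓ ^ n)
    (hcA : Nat.card (fixW W ((P : Subgroup H) ⊔ (Q : Subgroup H))) = ℓ ^ cA) :
    (P : Subgroup H).Normal ∨ (Q : Subgroup H).Normal ∨
      ∃ c, Nat.card (fixW W (P : Subgroup H)) = ℓ ^ c ∧ 0 < cA ∧ cA < c ∧ c < n ∧ cA ∣ c ∧ c ∣ n ∧
        (ℓ ^ n - 1) * Nat.card (N ⊓ Subgroup.centralizer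
          (((P : Subgroup H) ⊔ (Q : Subgroup H) : Subgroup H) : Set H) : Subgroup H) =
        Nat.card N * (ℓ ^ cA - 1) := by
  have : Fact ℓ.Prime := ⟨hℓ⟩
  obtain ⟨c, hc⟩ := IsPGroup.iff_card.mp (hW.to_subgroup (fixW W (P : Subgroup H)))
  set DP := N ⊓ Subgroup.centralizer ((P : Subgroup H) : Set H) with hDP
  set DA := N ⊓ Subgroup.centralizer
    (((P : Subgroup H) ⊔ (Q : Subgroup H) : Subgroup H) : Set H) with hDA
  have hle : DA ≤ DP :=
    inf_le_inf_left _ (Subgroup.centralizer_le (SetLike.coe_subset_coe.mpr le_sup_left))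
  have h1 := S.spreadP
  have h2 := S.spreadA
  rw [← hDP] at h1
  rw [← hDP, ← hDA] at h2
  have hT : Nat.card {w : W // w ≠ 1} = ℓ ^ n - 1 := by
    have := card_ne_one (W := W); omega
  have hTP : Nat.card {w : W // w ≠ 1 ∧ w ∈ fixW W (P : Subgroup H)} = ℓ ^ c - 1 := by
    have := card_diff_one (U := fixW W (P : Subgroup H)); omega
  have hTA : Nat.card {w : W // w ≠ 1 ∧ w ∈ fixW W ((P : Subgroup H) ⊔ (Q : Subgroup H))} =
      ℓ ^ cA - 1 := by
    have := card_diff_one (U := fixW W ((P : Subgroup H) ⊔ (Q : Subgroup H))); omega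
  rw [hT, hTP] at h1
  rw [hTP, hTA] at h2
  have hnpos : 0 < n := by
    rcases Nat.eq_zero_or_pos n with rfl | h
    · rw [pow_zero] at hn
      exact absurd hn (Finite.one_lt_card (α := W)).ne'
    · exact h
  have hXn : 0 < ℓ ^ n - 1 := Nat.sub_pos_of_lt (Nat.one_lt_pow hnpos.ne' hℓ.one_lt)
  have hDPpos : 0 < Nat.card DP := Nat.card_pos
  have hDApos : 0 < Nat.card DA := Nat.card_pos
  have hXc : 0 < ℓ ^ c - 1 := by
    refine Nat.pos_of_ne_zero fun e => ?_
    rw [e, mul_zero] at h1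
    rcases mul_eq_zero.mp h1 with h | h <;> omega
  have hXA : 0 < ℓ ^ cA - 1 := by
    refine Nat.pos_of_ne_zero fun e => ?_
    rw [e, mul_zero] at h2
    rcases mul_eq_zero.mp h2 with h | h <;> omega
  have hcA0 : 0 < cA := Nat.pos_of_ne_zero fun e => by simp [e] at hXA
  have hc0 : 0 < c := Nat.pos_of_ne_zero fun e => by simp [e] at hXc
  have hd1 : ℓ ^ cA - 1 ∣ ℓ ^ c - 1 := by
    obtain ⟨m, hm⟩ := Subgroup.card_dvd_of_le hle
    refine ⟨m, Nat.eq_of_mul_eq_mul_right hDApos ?_⟩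
    rw [h2, hm]; ring
  have hd2 : ℓ ^ c - 1 ∣ ℓ ^ n - 1 := by
    obtain ⟨m, hm⟩ := Subgroup.card_dvd_of_le (show DP ≤ N from inf_le_left)
    refine ⟨m, Nat.eq_of_mul_eq_mul_right hDPpos ?_⟩
    rw [h1, hm]; ring
  have hdc := eq_of_pow_sub_one_dvd hℓ.one_lt hd1
  have hdn := eq_of_pow_sub_one_dvd hℓ.one_lt hd2
  rcases (Nat.le_of_dvd hnpos hdn).lt_or_eq with hcn | rfl
  · rcases (Nat.le_of_dvd hc0 hdc).lt_or_eq with hAc | rfl
    · refine Or.inr (Or.inr ⟨c, hc, hcA0, hAc, hcn, hdc, hdn,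
        Nat.eq_of_mul_eq_mul_right hDPpos ?_⟩)
      calc (ℓ ^ n - 1) * Nat.card DA * Nat.card DP
          = (ℓ ^ n - 1) * Nat.card DP * Nat.card DA := by ring
        _ = Nat.card N * ((ℓ ^ c - 1) * Nat.card DA) := by rw [h1, mul_assoc]
        _ = Nat.card N * (ℓ ^ cA - 1) * Nat.card DP := by rw [h2]; ring
    · refine Or.inr (Or.inl (S.normalQ_of_centralized fun n hn => ?_))
      rw [mul_comm (Nat.card DP)] at h2
      have e := Subgroup.eq_of_le_of_card_ge hle (Nat.eq_of_mul_eq_mul_left hXc h2).ge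
      have hC := StructB.eq_top_of_conj_cover
        ((Subgroup.centralizer ((Q : Subgroup H) : Set H)).subgroupOf N) fun g => by
          obtain ⟨k, hk, hk'⟩ := S.cover g g.2
          refine ⟨⟨k, hk⟩, Subgroup.mem_subgroupOf.mpr ?_⟩
          rcases hk' with hk' | hk'
          · have hmem : k * (g : H) * k⁻¹ ∈ DP :=
              Subgroup.mem_inf.mpr ⟨N.mul_mem (N.mul_mem hk g.2) (N.inv_mem hk), hk'⟩
            rw [← e] at hmem
            exact Subgroup.centralizer_le (SetLike.coe_subset_coe.mpr le_sup_right) (Subgroup.mem_inf.mp hmem).2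
          · exact hk'
      exact Subgroup.mem_subgroupOf.mp (hC.ge (Subgroup.mem_top (⟨n, hn⟩ : N)))
  · exact Or.inl (normal_of_fixW_top P S.stabP
      (Subgroup.eq_top_of_card_eq _ (hc.trans hn.symm)))

/-- `Q` on the vectors fixed by `P`. -/
theorem modEq_fixed (S : Setup W P Q N) [Finite W] :
    Nat.card (fixW W (P : Subgroup H)) ≡
      Nat.card (fixW W ((P : Subgroup H) ⊔ (Q : Subgroup H))) [MOD q] := by
  have hmem : ∀ (a : (Q : Subgroup H)) (w : fixW W (P : Subgroup H)),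
      (a : H) • (w : W) ∈ fixW W (P : Subgroup H) := fun a w =>
    smul_mem_fixW (Subgroup.centralizer_le_normalizer _
      (S.sup_le_centralizerP (Subgroup.mem_sup_right a.2))) w.2
  letI : MulAction (Q : Subgroup H) (fixW W (P : Subgroup H)) :=
    { smul := fun a w => ⟨(a : H) • (w : W), hmem a w⟩
      one_smul := fun w => Subtype.ext (one_smul H (w : W))
      mul_smul := fun a b w => Subtype.ext (mul_smul (a : H) (b : H) (w : W)) }
  have hfp : Nat.card (MulAction.fixedPoints (Q : Subgroup H) (fixW W (P : Subgroup H))) =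
      Nat.card (fixW W ((P : Subgroup H) ⊔ (Q : Subgroup H))) := Nat.card_congr
    { toFun := fun w => ⟨(w.1 : W), fun a ha => (sup_le (le_stabilizer_of_mem_fixW w.1.2)
        (fun b hb => congrArg Subtype.val (w.2 ⟨b, hb⟩)) ha :
          a ∈ MulAction.stabilizer H (w.1 : W))⟩
      invFun := fun w => ⟨⟨(w : W), fixW_mono le_sup_left w.2⟩,
        fun a => Subtype.ext (w.2 a (Subgroup.mem_sup_right a.2))⟩
      left_inv := fun _ => rfl
      right_inv := fun _ => rfl }
  rw [← hfp]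
  exact Q.2.card_modEq_card_fixedPoints (fixW W (P : Subgroup H))

end Setup

/-- **Core lemma**: if the stabiliser of every nontrivial vector normalises an abelian Sylow
`p`- and `q`-subgroup and no degree is divisible by `p * q`, one of them is normal. -/
theorem core [Group.IsSolvable H] [Finite W] [Nontrivial W] {p q ℓ : ℕ} [hp : Fact p.Prime]
    [hq : Fact q.Prime] (hℓ : ℓ.Prime) (hpq : p ≠ q)
    (hW : IsPGroup ℓ W) (hav : Avoid p q H)
    (hP : ∀ w : W, w ≠ 1 → StabSylow p (MulAction.stabilizer H w))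
    (hQ : ∀ w : W, w ≠ 1 → StabSylow q (MulAction.stabilizer H w)) :
    (∃ P : Sylow p H, (P : Subgroup H).Normal) ∨ ∃ Q : Sylow q H, (Q : Subgroup H).Normal := by
  have : Fact ℓ.Prime := ⟨hℓ⟩
  obtain ⟨P, Q, N, S⟩ := exists_setup hpq hav hP hQ
  obtain ⟨n, hn⟩ := IsPGroup.iff_card.mp hW
  obtain ⟨cA, hcA⟩ :=
    IsPGroup.iff_card.mp (hW.to_subgroup (fixW W ((P : Subgroup H) ⊔ (Q : Subgroup H))))
  rcases S.step hℓ hW hn hcA with h | h | ⟨cP, hcP, hA0, hAP, hPn, hdAP, hdPn, heq⟩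
  · exact Or.inl ⟨P, h⟩
  · exact Or.inr ⟨Q, h⟩
  rcases S.symm.step hℓ hW hn (by rwa [sup_comm]) with h | h | ⟨cQ, hcQ, -, hAQ, hQn, hdAQ, hdQn, -⟩
  · exact Or.inr ⟨Q, h⟩
  · exact Or.inl ⟨P, h⟩
  exfalso
  have hn4 : 4 ≤ n := by
    obtain ⟨m, hm⟩ := hdPn
    have : 2 ≤ m := by
      rcases m with - | - | m <;> simp_all
    nlinarith
  by_cases h26 : ℓ = 2 ∧ n = 6
  · obtain ⟨rfl, rfl⟩ := h26
    have e1 := S.modEq_fixed
    have e2 := S.symm.modEq_fixed
    rw [hcP, hcA] at e1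
    rw [sup_comm] at e2
    rw [hcQ, hcA] at e2
    have key : ∀ {c t : ℕ}, t.Prime → ¬ t ∣ Nat.card N → cA < c → c < 6 → cA ∣ c → c ∣ 6 →
        2 ^ c ≡ 2 ^ cA [MOD t] → t = 2 := by
      intro c t ht htN hac hc6 hdc hd6 hmod
      have hd : t ∣ 2 ^ c - 2 ^ cA :=
        (Nat.modEq_iff_dvd' (Nat.pow_le_pow_right (by norm_num) hac.le)).mp hmod.symm
      have hc23 : c = 2 ∨ c = 3 := by interval_cases c <;> omega
      have hA1 : cA = 1 := by rcases hc23 with rfl | rfl <;> interval_cases cA <;> omega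
      subst hA1
      rcases hc23 with rfl | rfl
      · exact (Nat.prime_dvd_prime_iff_eq ht Nat.prime_two).mp (by simpa using hd)
      · have hd' : t ∣ 2 * 3 := by simpa using hd
        rcases ht.dvd_mul.mp hd' with h | h
        · exact (Nat.prime_dvd_prime_iff_eq ht Nat.prime_two).mp h
        · refine absurd ?_ htN
          rw [(Nat.prime_dvd_prime_iff_eq ht Nat.prime_three).mp h]
          simp only [pow_one, show (2 : ℕ) - 1 = 1 from rfl, mul_one] at heq
          exact heq ▸ Dvd.dvd.mul_right (by norm_num : 3 ∣ 2 ^ 6 - 1) _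
    have hNt : ∀ {t : ℕ} [Fact t.Prime] (T : Sylow t H),
        (T : Subgroup H) ≤ (P : Subgroup H) ⊔ (Q : Subgroup H) → (T : Subgroup H) ≠ ⊥ →
          ¬ t ∣ Nat.card N := by
      intro t _ T hT hne hd
      obtain ⟨i, hi⟩ := IsPGroup.iff_card.mp T.2
      have hi0 : i ≠ 0 := fun e => hne (Subgroup.card_eq_one.mp (by rw [hi, e, pow_zero]))
      exact (Fact.out : t.Prime).ne_one (Nat.eq_one_of_dvd_coprimes S.cop hd
        (((dvd_pow_self t hi0).trans hi.symm.dvd).trans (Subgroup.card_dvd_of_le hT)))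
    have hPne : (P : Subgroup H) ≠ ⊥ := fun e => by
      have : fixW W (P : Subgroup H) = ⊤ := top_le_iff.mp fun w _ a ha => by
        rw [e, Subgroup.mem_bot] at ha; rw [ha, one_smul]
      rw [this, Subgroup.card_top, hn] at hcP
      exact hPn.ne' (Nat.pow_right_injective le_rfl hcP)
    have hQne : (Q : Subgroup H) ≠ ⊥ := fun e => by
      have : fixW W (Q : Subgroup H) = ⊤ := top_le_iff.mp fun w _ a ha => by
        rw [e, Subgroup.mem_bot] at ha; rw [ha, one_smul]
      rw [this, Subgroup.card_top, hn] at hcQ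
      exact hQn.ne' (Nat.pow_right_injective le_rfl hcQ)
    exact hpq ((key hp.out (hNt P le_sup_left hPne) hAQ hQn hdAQ hdQn e2).trans
      (key hq.out (hNt Q le_sup_right hQne) hAP hPn hdAP hdPn e1).symm)
  obtain ⟨s, hs, hsd, hsmin⟩ := ClassK.zsigmondy hℓ.one_lt (by omega : 1 < n) h26
    (fun h => by omega)
  have : Fact s.Prime := ⟨hs⟩
  have hsℓ : ¬ s ∣ ℓ := fun h => by
    have h1 : s ∣ ℓ ^ n := h.trans (dvd_pow_self _ (by omega))
    have h2 : 1 ≤ ℓ ^ n := Nat.one_le_pow _ _ hℓ.pos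
    have h3 := Nat.dvd_sub h1 hsd
    rw [show ℓ ^ n - (ℓ ^ n - 1) = 1 by omega] at h3
    exact hs.ne_one (Nat.dvd_one.mp h3)
  have hmod : ∀ k m : ℕ, k ≤ m → m - k < n → ℓ ^ k ≡ ℓ ^ m [MOD s] → k = m := by
    intro k m hkm hlt hmd
    by_contra hne
    have h1 := (Nat.modEq_iff_dvd' (Nat.pow_le_pow_right hℓ.pos hkm)).mp hmd
    rw [show ℓ ^ m - ℓ ^ k = ℓ ^ k * (ℓ ^ (m - k) - 1) by
      rw [Nat.mul_sub, mul_one, ← pow_add, Nat.add_sub_cancel' hkm]] at h1
    exact (hs.dvd_mul.mp h1).elim (fun h => hsℓ (hs.dvd_of_dvd_pow h))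
      (hsmin (m - k) (by omega) hlt)
  set A := (P : Subgroup H) ⊔ (Q : Subgroup H) with hA
  set ρ := (MulDistribMulAction.toMulAut H W).comp N.subtype with hρ
  have hρs : ∀ (x : N) (w : W), ρ x w = (x : H) • w := fun _ _ => rfl
  have hker : ρ.ker.map N.subtype ≤ N ⊓ Subgroup.centralizer (A : Set H) := by
    rintro _ ⟨x, hx, rfl⟩
    obtain ⟨⟨w, hwA⟩, hw⟩ : ∃ w : fixW W A, w ≠ 1 := by
      have : Nontrivial (fixW W A) := Finite.one_lt_card_iff_nontrivial.mp
        (hcA ▸ Nat.one_lt_pow hA0.ne' hℓ.one_lt)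
      exact exists_ne 1
    have hfix : (x : H) • w = w := by
      rw [← hρs, MonoidHom.mem_ker.mp hx]; rfl
    have hw' : w ≠ 1 := fun e => hw (Subtype.ext e)
    have := S.normalN
    refine ⟨x.2, Setup.mem_centralizer_sup ?_ ?_⟩
    · exact mem_centralizer_of_mem_normalizer (S.disjoint le_sup_left) x.2
        (mem_normalizer_of_fix P S.stabP hw' (fixW_mono le_sup_left hwA)
          (hfix.symm ▸ fixW_mono le_sup_left hwA))
    · exact mem_centralizer_of_mem_normalizer (S.disjoint le_sup_right) x.2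
        (mem_normalizer_of_fix Q S.stabQ hw' (fixW_mono le_sup_right hwA)
          (hfix.symm ▸ fixW_mono le_sup_right hwA))
  have hsR : s ∣ Nat.card ρ.range := by
    obtain ⟨j, hj⟩ := Subgroup.card_dvd_of_le hker
    rw [Subgroup.card_map_of_injective N.subtype_injective] at hj
    rw [← ρ.ker.card_mul_index, Subgroup.index_ker, hj] at heq
    have h1 : (ℓ ^ n - 1) * j = Nat.card ρ.range * (ℓ ^ cA - 1) :=
      Nat.eq_of_mul_eq_mul_left (Nat.card_pos (α := ρ.ker)) (by linear_combination heq)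
    exact (hs.dvd_mul.mp (h1 ▸ hsd.mul_right j)).resolve_right
      (hsmin cA hA0 (by omega))
  obtain ⟨⟨_, ⟨y, rfl⟩⟩, hyo⟩ := exists_prime_orderOf_dvd_card' s hsR
  obtain ⟨k, hk, hk'⟩ := S.cover y y.2
  set z : N := ⟨k, hk⟩ * y * ⟨k, hk⟩⁻¹ with hz
  replace hyo : orderOf (ρ y) = s :=
    (orderOf_injective ρ.range.subtype ρ.range.subtype_injective ⟨ρ y, y, rfl⟩).trans hyo
  have hzs : ρ z ^ s = 1 := by
    rw [hz, map_mul, map_mul, map_inv, conj_pow, ← hyo, pow_orderOf_eq_one, mul_one, mul_inv_cancel]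
  have hz1 : ρ z ≠ 1 := fun e => by
    rw [hz, map_mul, map_mul, map_inv, conj_eq_one_iff] at e
    rw [e, orderOf_one] at hyo
    exact hs.ne_one hyo.symm
  have hperm : ∀ (U : Subgroup W) (hU : ∀ w ∈ U, (z : H) • w ∈ U),
      Nat.card {w : U // (z : H) • (w : W) = w} ≡ Nat.card U [MOD s] := by
    intro U hU
    have hinj : Function.Injective fun w : U => (⟨(z : H) • (w : W), hU _ w.2⟩ : U) := fun a b e =>
      Subtype.ext (smul_left_cancel _ (congrArg Subtype.val e))
    set σ : Equiv.Perm U := Equiv.ofBijective _ (Finite.injective_iff_bijective.mp hinj) with hσ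
    have hσk : ∀ (i : ℕ) (w : U), ((σ ^ i) w : W) = ((ρ z) ^ i) (w : W) := by
      intro i
      induction i with
      | zero => intro w; rfl
      | succ i ih =>
        intro w
        rw [pow_succ', pow_succ', Equiv.Perm.mul_apply, MulAut.mul_apply, ← ih w]
        rfl
    have h := StructB.card_fixed_modEq (q := s) σ (k := 1) (by
      rw [pow_one]
      refine Equiv.ext fun w => Subtype.ext ?_
      rw [hσk, hzs]
      rfl)
    refine Eq.congr_left (congrArg (· % s) ?_) |>.mp h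
    exact Nat.card_congr (Equiv.subtypeEquivRight fun w =>
      ⟨fun e => congrArg Subtype.val e, fun e => Subtype.ext e⟩)
  obtain ⟨k₀, hk₀⟩ := IsPGroup.iff_card.mp (hW.to_subgroup (fixW W (Subgroup.zpowers (z : H))))
  have hfixz : ∀ w : W, w ∈ fixW W (Subgroup.zpowers (z : H)) ↔ (z : H) • w = w := fun w =>
    ⟨fun h => h _ (Subgroup.mem_zpowers _), fun h a ha =>
      (Subgroup.zpowers_le.mpr h : Subgroup.zpowers (z : H) ≤ MulAction.stabilizer H w) ha⟩
  have hk₀n : k₀ ≤ n := by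
    have := Subgroup.card_subgroup_dvd_card (fixW W (Subgroup.zpowers (z : H)))
    rw [hk₀, hn] at this
    exact (Nat.pow_dvd_pow_iff_le_right hℓ.one_lt).mp this
  have hk0 : k₀ = 0 := by
    have h := hperm ⊤ fun w _ => Subgroup.mem_top _
    rw [Subgroup.card_top, hn, Nat.card_congr (Equiv.trans
      (Equiv.subtypeSubtypeEquivSubtypeInter _ _)
      (Equiv.subtypeEquivRight (q := fun w : W => w ∈ fixW W (Subgroup.zpowers (z : H)))
        fun w => ⟨fun e => (hfixz w).mpr e.2, fun e => ⟨Subgroup.mem_top w, (hfixz w).mp e⟩⟩)),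
      hk₀] at h
    by_contra hne
    have e := hmod k₀ n hk₀n (by omega) h
    have htop := Subgroup.eq_top_of_card_eq _ ((e ▸ hk₀).trans hn.symm)
    exact hz1 (MulEquiv.ext fun w => by
      rw [hρs]; exact (hfixz w).mp (htop ▸ Subgroup.mem_top w))
  have final : ∀ {X : Subgroup H} {c : ℕ}, (z : H) ∈ Subgroup.centralizer (X : Set H) →
      Nat.card (fixW W X) = ℓ ^ c → cA < c → c < n → False := by
    intro X c hzX hc hc0 hcn
    have h := hperm (fixW W X) fun w hw =>
      smul_mem_fixW (Subgroup.centralizer_le_normalizer _ hzX) hw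
    have hbot : fixW W (Subgroup.zpowers (z : H)) = ⊥ :=
      Subgroup.card_eq_one.mp (by rw [hk₀, hk0, pow_zero])
    have : Subsingleton {w : fixW W X // (z : H) • (w : W) = w} := ⟨fun a b => by
      have h1 : ∀ a : {w : fixW W X // (z : H) • (w : W) = w}, (a.1 : W) = 1 := fun a =>
        Subgroup.mem_bot.mp (hbot ▸ (hfixz _).mpr a.2)
      exact Subtype.ext (Subtype.ext ((h1 a).trans (h1 b).symm))⟩
    have : Nonempty {w : fixW W X // (z : H) • (w : W) = w} := ⟨⟨1, smul_one _⟩⟩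
    rw [Nat.card_eq_one_iff_unique.mpr ⟨inferInstance, inferInstance⟩, hc, ← pow_zero ℓ] at h
    exact absurd (hmod 0 c (Nat.zero_le c) (by omega) h) (by omega)
  rcases hk' with hk' | hk'
  · exact final hk' hcP hAP hPn
  · exact final hk' hcQ hAQ hQn

end CfsgLib.BlockB.Palfy
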