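import Cfsg.Agent.Lib.BlockA.GlaubermanSolvable
import Cfsg.Agent.Lib.Coprime.Action
import Cfsg.Agent.Lib.Clifford.Correspondence

/-!
# Classes of a coprime normal subgroup when every character is fixed by one of two subgroups
-/

set_option autoImplicit false

namespace CfsgLib.BlockB.Palfy

open CfsgLib CfsgLib.Clifford CfsgLib.BlockA

universe u

theorem mem_sup_of_commute {H : Type u} [Group H] {P Q : Subgroup H}
    (hc : ∀ a ∈ P, ∀ b ∈ Q, a * b = b * a) {x : H} (hx : x ∈ P ⊔ Q) :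
    ∃ a ∈ P, ∃ b ∈ Q, x = a * b := by
  rw [Subgroup.sup_eq_closure] at hx
  induction hx using Subgroup.closure_induction with
  | mem y hy =>
    rcases hy with hy | hy
    · exact ⟨y, hy, 1, one_mem _, (mul_one y).symm⟩
    · exact ⟨1, one_mem _, y, hy, (one_mul y).symm⟩
  | one => exact ⟨1, one_mem _, 1, one_mem _, (one_mul 1).symm⟩
  | mul y z _ _ ihy ihz =>
    obtain ⟨a, ha, b, hb, rfl⟩ := ihy
    obtain ⟨a', ha', b', hb', rfl⟩ := ihz
    exact ⟨a * a', mul_mem ha ha', b * b', mul_mem hb hb', by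
      rw [mul_assoc, ← mul_assoc b, ← hc a' ha' b hb, mul_assoc a', ← mul_assoc a]⟩
  | inv y _ ihy =>
    obtain ⟨a, ha, b, hb, rfl⟩ := ihy
    exact ⟨a⁻¹, inv_mem ha, b⁻¹, inv_mem hb, by
      rw [mul_inv_rev, hc _ (inv_mem ha) _ (inv_mem hb)]⟩

/-- If every character of `N` is fixed by `P` or by `Q`, every class meets `C(P)` or `C(Q)`. -/
theorem class_cover {H : Type u} [Group H] [Finite H] (N P Q : Subgroup H) [N.Normal]
    (hPs : Group.IsSolvable P) (hQs : Group.IsSolvable Q) (hAs : Group.IsSolvable (P ⊔ Q : Subgroup H))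
    (hc : ∀ a ∈ P, ∀ b ∈ Q, a * b = b * a)
    (hcop : (Nat.card N).Coprime (Nat.card (P ⊔ Q : Subgroup H)))
    (hfix : ∀ θ : N → ℂ, Cfsg.IsIrrCharacter N θ →
      (∀ a ∈ P, ∀ n : N, θ (conjN a n) = θ n) ∨ ∀ b ∈ Q, ∀ n : N, θ (conjN b n) = θ n) :
    ∀ n ∈ N, ∃ k ∈ N, k * n * k⁻¹ ∈ Subgroup.centralizer (P : Set H) ∨
      k * n * k⁻¹ ∈ Subgroup.centralizer (Q : Set H) := by
  classical
  let act : ∀ X : Subgroup H, MulDistribMulAction X N := fun X =>
    MulDistribMulAction.compHom N ((MulAut.conjNormal (H := N)).comp X.subtype)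
  let InvC : Subgroup H → (N → ℂ) → Prop := fun X θ => ∀ a ∈ X, ∀ n : N, θ (conjN a n) = θ n
  let InvK : Subgroup H → ConjClasses N → Prop := fun X K =>
    ∀ a ∈ X, ∀ n : N, ConjClasses.mk n = K → ConjClasses.mk (conjN a n) = K
  have hcount : ∀ X : Subgroup H, X ≤ P ⊔ Q → Group.IsSolvable X →
      {χ : Cfsg.IrrCharacter N | InvC X χ.1}.ncard = {K : ConjClasses N | InvK X K}.ncard := by
    intro X hX hs
    letI := act X
    have hact : ∀ (a : X) (n : N), a • n = conjN (a : H) n := fun a n => Subtype.ext rfl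
    have hco : (Nat.card N).Coprime (Nat.card X) :=
      hcop.coprime_dvd_right (Subgroup.card_dvd_of_le hX)
    have h := natCard_inv_eq_natCard_fixedClass _ N X rfl hs hco
    rw [← Nat.card_coe_set_eq, ← Nat.card_coe_set_eq]
    refine (Nat.card_congr (Equiv.subtypeEquivRight fun χ => ?_)).trans
      (h.trans (Nat.card_congr (Equiv.subtypeEquivRight fun K => ?_)))
    · exact ⟨fun hi a n => by rw [hact]; exact hi a a.2 n,
        fun hi a ha n => by have := hi ⟨a, ha⟩ n; rwa [hact] at this⟩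
    · exact ⟨fun hi a ha n hn => by have := hi ⟨a, ha⟩ n hn; rwa [hact] at this,
        fun hi a n hn => by rw [hact]; exact hi a a.2 n hn⟩
  have hinterC : {χ : Cfsg.IrrCharacter N | InvC P χ.1} ∩ {χ | InvC Q χ.1} =
      {χ | InvC (P ⊔ Q) χ.1} := by
    ext χ
    refine ⟨fun h a ha => ?_, fun h => ⟨fun a ha => h a (Subgroup.mem_sup_left ha),
      fun a ha => h a (Subgroup.mem_sup_right ha)⟩⟩
    have hP : P ≤ inertia χ.1 := fun a ha => h.1 a ha
    have hQ : Q ≤ inertia χ.1 := fun a ha => h.2 a ha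
    exact sup_le hP hQ ha
  have hinterK : {K : ConjClasses N | InvK P K} ∩ {K | InvK Q K} = {K | InvK (P ⊔ Q) K} := by
    ext K
    refine ⟨fun h x hx n hn => ?_, fun h => ⟨fun a ha => h a (Subgroup.mem_sup_left ha),
      fun a ha => h a (Subgroup.mem_sup_right ha)⟩⟩
    obtain ⟨a, ha, b, hb, rfl⟩ := mem_sup_of_commute hc hx
    have : conjN (a * b) n = conjN a (conjN b n) := Subtype.ext (by simp [mul_assoc])
    rw [this]
    exact h.1 a ha _ (h.2 b hb n hn)
  have : Finite (ConjClasses N) := Finite.of_surjective _ ConjClasses.mk_surjective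
  have huC : {χ : Cfsg.IrrCharacter N | InvC P χ.1} ∪ {χ | InvC Q χ.1} = Set.univ :=
    Set.eq_univ_of_forall fun χ => hfix χ.1 χ.2
  have huK : {K : ConjClasses N | InvK P K} ∪ {K | InvK Q K} = Set.univ := by
    refine Set.eq_of_subset_of_ncard_le (Set.subset_univ _) ?_ (Set.toFinite _)
    have e1 := Set.ncard_union_add_ncard_inter {χ : Cfsg.IrrCharacter N | InvC P χ.1}
      {χ | InvC Q χ.1}
    have e2 := Set.ncard_union_add_ncard_inter {K : ConjClasses N | InvK P K} {K | InvK Q K}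
    rw [hinterC, huC, Set.ncard_univ, hcount _ le_sup_left hPs, hcount _ le_sup_right hQs,
      hcount _ le_rfl hAs, Char.irr_card_eq] at e1
    rw [hinterK] at e2
    rw [Set.ncard_univ]
    omega
  intro n hn
  have key : ∀ X : Subgroup H, X ≤ P ⊔ Q → Group.IsSolvable X →
      InvK X (ConjClasses.mk (⟨n, hn⟩ : N)) →
      ∃ k ∈ N, k * n * k⁻¹ ∈ Subgroup.centralizer (X : Set H) := by
    intro X hX hs hi
    letI : MulAction H N := MulAction.compHom N (MulAut.conjNormal (H := N))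
    have hco : (Nat.card X).Coprime (Nat.card N) :=
      (hcop.coprime_dvd_right (Subgroup.card_dvd_of_le hX)).symm
    have hsm : ∀ (a : H) (m : N), a • m = conjN a m := fun a m => Subtype.ext rfl
    obtain ⟨m, hm, hfixm⟩ := Coprime.exists_fixed_point (A := X) (G := N)
      (by rw [Subgroup.normalizer_eq_top]; exact le_top) hco (Or.inl hs)
      {m : N | ConjClasses.mk m = ConjClasses.mk (⟨n, hn⟩ : N)} ⟨_, rfl⟩
      (fun a ha s hs' => by rw [Set.mem_setOf_eq, hsm]; exact hi a ha s hs')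
      (fun g hg s hs' => by
        rw [Set.mem_setOf_eq, hsm, ← hs']
        refine ConjClasses.mk_eq_mk_iff_isConj.mpr (isConj_iff.mpr ⟨⟨g, hg⟩⁻¹, Subtype.ext ?_⟩)
        simp [mul_assoc])
      (fun s hs' t ht => by
        obtain ⟨c, hc'⟩ := isConj_iff.mp (ConjClasses.mk_eq_mk_iff_isConj.mp (hs'.trans ht.symm))
        exact ⟨c, c.2, by rw [hsm, ← hc']; exact Subtype.ext (by simp)⟩)
    obtain ⟨c, hc'⟩ := isConj_iff.mp (ConjClasses.mk_eq_mk_iff_isConj.mp hm.symm)
    refine ⟨c, c.2, Subgroup.mem_centralizer_iff.mpr fun a ha => ?_⟩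
    have h1 := congrArg Subtype.val ((hsm a m).symm.trans (hfixm a ha))
    have h2 : (c : H) * n * (c : H)⁻¹ = (m : H) := congrArg Subtype.val hc'
    rw [h2]
    have h3 : a * (m : H) * a⁻¹ = (m : H) := by simpa using h1
    exact mul_inv_eq_iff_eq_mul.mp h3
  rcases (huK.ge (Set.mem_univ (ConjClasses.mk (⟨n, hn⟩ : N)))) with h | h
  · obtain ⟨k, hk, h'⟩ := key P le_sup_left hPs h
    exact ⟨k, hk, Or.inl h'⟩
  · obtain ⟨k, hk, h'⟩ := key Q le_sup_right hQs h
    exact ⟨k, hk, Or.inr h'⟩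

end CfsgLib.BlockB.Palfy
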