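import Cfsg.Agent.Lib.BlockB.Palfy.Fix
import Cfsg.Agent.Lib.BlockB.Palfy.Cover
import Cfsg.Agent.Lib.OddLocal.PiCore
import Cfsg.Agent.Lib.Solvable.HallHigman
import Cfsg.Agent.Lib.StructB.Misc

/-!
# The setting of the core lemma for Pálfy's theorem
-/

set_option autoImplicit false

namespace CfsgLib.BlockB.Palfy

open CfsgLib CfsgLib.Clifford
open scoped Pointwise

universe u v

section

variable {H : Type u} [Group H] [Finite H] {p : ℕ} [Fact p.Prime]

/-- Sylow subgroups in `M = X N_M(S)` are conjugate by `X`. -/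
theorem conj_sylow_mem (S S' : Sylow p H) {M X : Subgroup H} (hS : (S : Subgroup H) ≤ M)
    (hS' : (S' : Subgroup H) ≤ M)
    (hM : ∀ k ∈ M, ∃ x ∈ X, ∃ a ∈ Subgroup.normalizer ((S : Subgroup H) : Set H), k = x * a) :
    ∃ x ∈ X, ∀ b ∈ (S : Subgroup H), x * b * x⁻¹ ∈ (S' : Subgroup H) := by
  obtain ⟨k, hk⟩ := MulAction.exists_smul_eq M (S.subtype hS) (S'.subtype hS')
  obtain ⟨x, hx, a, ha, hka⟩ := hM k k.2
  refine ⟨x, hx, fun b hb => ?_⟩
  have hb' : a⁻¹ * b * a ∈ (S : Subgroup H) := by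
    rw [Subgroup.mem_normalizer_iff.mp ha, show a * (a⁻¹ * b * a) * a⁻¹ = b by group]
    exact hb
  have h1 : k * ⟨a⁻¹ * b * a, hS hb'⟩ * k⁻¹ ∈ ((k • S.subtype hS : Sylow p M) : Subgroup M) := by
    rw [Sylow.coe_subgroup_smul, ← MulAut.conj_apply]
    exact Subgroup.smul_mem_pointwise_smul _ _ _ hb'
  rw [hk] at h1
  have h2 : (k : H) * (a⁻¹ * b * a) * (k : H)⁻¹ ∈ (S' : Subgroup H) := h1
  rwa [hka, show x * a * (a⁻¹ * b * a) * (x * a)⁻¹ = x * b * x⁻¹ by group] at h2

/-- All Sylow subgroups lie in a normal subgroup containing one of them. -/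
theorem sylow_le_of_normal (S S' : Sylow p H) {K : Subgroup H} [hK : K.Normal]
    (hS : (S : Subgroup H) ≤ K) : (S' : Subgroup H) ≤ K := by
  obtain ⟨h, rfl⟩ := MulAction.exists_smul_eq H S S'
  intro x hx
  rw [Sylow.coe_subgroup_smul, Subgroup.mem_pointwise_smul_iff_inv_smul_mem] at hx
  have h1 := hK.conj_mem _ (hS hx) h
  simpa [MulAut.smul_def, mul_assoc] using h1

end

variable {H : Type u} [Group H] {W : Type v} [CommGroup W] [MulDistribMulAction H W]

/-- An element carrying a vector fixed by `P` to another one normalises `P`. -/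
theorem mem_normalizer_of_fix [Finite H] {p : ℕ} [Fact p.Prime] (P : Sylow p H)
    (hst : ∀ w : W, w ≠ 1 → StabSylow p (MulAction.stabilizer H w)) {g : H} {w : W} (hw : w ≠ 1)
    (h1 : w ∈ fixW W (P : Subgroup H)) (h2 : g • w ∈ fixW W (P : Subgroup H)) :
    g ∈ Subgroup.normalizer ((P : Subgroup H) : Set H) := by
  have hgw : g • w ≠ 1 := fun e => hw (by simpa using congrArg (g⁻¹ • ·) e)
  obtain ⟨S, -, hSn, -⟩ := hst _ hgw
  have e1 := sylow_eq_of_le_normalizer S P ((le_stabilizer_of_mem_fixW h2).trans hSn)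
  have h3 : ((g • P : Sylow p H) : Subgroup H) ≤ MulAction.stabilizer H (g • w) := by
    intro x hx
    rw [Sylow.coe_subgroup_smul, Subgroup.mem_pointwise_smul_iff_inv_smul_mem] at hx
    have hx' : g⁻¹ * x * g ∈ (P : Subgroup H) := by simpa [MulAut.smul_def] using hx
    have h4 := congrArg (g • ·) (h1 _ hx')
    rw [← mul_smul, show g * (g⁻¹ * x * g) = x * g by group, mul_smul] at h4
    exact h4
  have e2 := sylow_eq_of_le_normalizer S (g • P) (h3.trans hSn)
  exact Sylow.smul_eq_iff_mem_normalizer.mp (Sylow.ext (e2.trans e1.symm))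

/-- A Sylow subgroup fixing every vector is normal. -/
theorem normal_of_fixW_top [Finite H] [Finite W] [Nontrivial W] {p : ℕ} [Fact p.Prime]
    (P : Sylow p H) (hst : ∀ w : W, w ≠ 1 → StabSylow p (MulAction.stabilizer H w))
    (h : fixW W (P : Subgroup H) = ⊤) : (P : Subgroup H).Normal := by
  obtain ⟨w, hw⟩ := exists_ne (1 : W)
  have hall : ∀ x : W, x ∈ fixW W (P : Subgroup H) := fun x => h ▸ Subgroup.mem_top x
  rw [← Subgroup.normalizer_eq_top_iff, Subgroup.eq_top_iff']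
  exact fun g => mem_normalizer_of_fix P hst hw (hall w) (hall _)

/-- A subgroup centralised by a coprime normal subgroup as soon as normalised. -/
theorem mem_centralizer_of_mem_normalizer {N S : Subgroup H} [hN : N.Normal]
    (hd : Disjoint N S) {x : H} (hx : x ∈ N) (hn : x ∈ Subgroup.normalizer (S : Set H)) :
    x ∈ Subgroup.centralizer (S : Set H) := by
  refine Subgroup.mem_centralizer_iff.mpr fun a ha => ?_
  have h1 : x * a * x⁻¹ * a⁻¹ ∈ S :=
    S.mul_mem ((Subgroup.mem_normalizer_iff.mp hn a).mp ha) (S.inv_mem ha)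
  have h2 : x * a * x⁻¹ * a⁻¹ ∈ N := by
    rw [show x * a * x⁻¹ * a⁻¹ = x * (a * x⁻¹ * a⁻¹) by group]
    exact N.mul_mem hx (hN.conj_mem _ (N.inv_mem hx) a)
  have h3 := Subgroup.disjoint_def.mp hd h2 h1
  rw [mul_inv_eq_one, mul_inv_eq_iff_eq_mul] at h3
  exact h3.symm

/-- The data of the core lemma after choosing commuting Sylow subgroups. -/
structure Setup (W : Type v) [CommGroup W] [MulDistribMulAction H W] {p q : ℕ} (P : Sylow p H)
    (Q : Sylow q H) (N : Subgroup H) : Prop where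
  ne : p ≠ q
  comm : ∀ a ∈ (P : Subgroup H), ∀ b ∈ (Q : Subgroup H), a * b = b * a
  commP : ∀ a ∈ (P : Subgroup H), ∀ b ∈ (P : Subgroup H), a * b = b * a
  commQ : ∀ a ∈ (Q : Subgroup H), ∀ b ∈ (Q : Subgroup H), a * b = b * a
  stabP : ∀ w : W, w ≠ 1 → StabSylow p (MulAction.stabilizer H w)
  stabQ : ∀ w : W, w ≠ 1 → StabSylow q (MulAction.stabilizer H w)
  normalN : N.Normal
  cop : (Nat.card N).Coprime (Nat.card ((P : Subgroup H) ⊔ (Q : Subgroup H) : Subgroup H))
  normalK : (N ⊔ ((P : Subgroup H) ⊔ (Q : Subgroup H))).Normal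
  cover : ∀ n ∈ N, ∃ k ∈ N,
    k * n * k⁻¹ ∈ Subgroup.centralizer ((P : Subgroup H) : Set H) ∨
      k * n * k⁻¹ ∈ Subgroup.centralizer ((Q : Subgroup H) : Set H)

namespace Setup

variable {p q : ℕ} {P : Sylow p H} {Q : Sylow q H} {N : Subgroup H}

theorem symm (S : Setup W P Q N) : Setup W Q P N where
  ne := S.ne.symm
  comm a ha b hb := (S.comm b hb a ha).symm
  commP := S.commQ
  commQ := S.commP
  stabP := S.stabQ
  stabQ := S.stabP
  normalN := S.normalN
  cop := by rw [sup_comm]; exact S.cop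
  normalK := by rw [sup_comm (Q : Subgroup H) (P : Subgroup H)]; exact S.normalK
  cover n hn := by obtain ⟨k, hk, h⟩ := S.cover n hn; exact ⟨k, hk, h.symm⟩

theorem disjoint (S : Setup W P Q N) {X : Subgroup H}
    (hX : X ≤ (P : Subgroup H) ⊔ (Q : Subgroup H)) : Disjoint N X :=
  (Subgroup.disjoint_of_coprime_natCard S.cop).mono_right hX

theorem sup_le_centralizerP (S : Setup W P Q N) :
    (P : Subgroup H) ⊔ (Q : Subgroup H) ≤ Subgroup.centralizer ((P : Subgroup H) : Set H) :=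
  sup_le (fun a ha => Subgroup.mem_centralizer_iff.mpr fun b hb => S.commP b hb a ha)
    (fun b hb => Subgroup.mem_centralizer_iff.mpr fun a ha => S.comm a ha b hb)

theorem mem_centralizer_sup {x : H} (hP : x ∈ Subgroup.centralizer ((P : Subgroup H) : Set H))
    (hQ : x ∈ Subgroup.centralizer ((Q : Subgroup H) : Set H)) :
    x ∈ Subgroup.centralizer (((P : Subgroup H) ⊔ (Q : Subgroup H) : Subgroup H) : Set H) := by
  have h : (P : Subgroup H) ⊔ (Q : Subgroup H) ≤ Subgroup.centralizer {x} :=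
    sup_le
      (fun a ha => Subgroup.mem_centralizer_singleton_iff.mpr (Subgroup.mem_centralizer_iff.mp hP a ha))
      (fun a ha => Subgroup.mem_centralizer_singleton_iff.mpr (Subgroup.mem_centralizer_iff.mp hQ a ha))
  exact Subgroup.mem_centralizer_iff.mpr fun a ha =>
    Subgroup.mem_centralizer_singleton_iff.mp (h ha)

theorem decomp (S : Setup W P Q N) {k : H}
    (hk : k ∈ N ⊔ ((P : Subgroup H) ⊔ (Q : Subgroup H))) :
    ∃ x ∈ N, ∃ a ∈ (P : Subgroup H) ⊔ (Q : Subgroup H), k = x * a := by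
  have := S.normalN
  obtain ⟨x, hx, a, ha, e⟩ := Subgroup.mem_sup_of_normal_left.mp hk
  exact ⟨x, hx, a, ha, e.symm⟩

variable [Finite H] [Fact p.Prime] [Fact q.Prime]

/-- Every Sylow `p`-subgroup is an `N`-conjugate of `P`. -/
theorem exists_conj (S : Setup W P Q N) (P' : Sylow p H) :
    ∃ x ∈ N, ∀ b ∈ (P : Subgroup H), x * b * x⁻¹ ∈ (P' : Subgroup H) := by
  have hle : (P : Subgroup H) ≤ N ⊔ ((P : Subgroup H) ⊔ (Q : Subgroup H)) :=
    le_sup_left.trans le_sup_right
  have := S.normalK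
  refine conj_sylow_mem P P' hle (sylow_le_of_normal P P' hle) fun k hk => ?_
  obtain ⟨x, hx, a, ha, e⟩ := S.decomp hk
  exact ⟨x, hx, a, Subgroup.centralizer_le_normalizer _ (S.sup_le_centralizerP ha), e⟩

theorem normalQ_of_centralized (S : Setup W P Q N)
    (h : N ≤ Subgroup.centralizer ((Q : Subgroup H) : Set H)) : (Q : Subgroup H).Normal := by
  rw [← Subgroup.normalizer_eq_top_iff, Subgroup.eq_top_iff']
  intro g
  obtain ⟨x, hx, hxb⟩ := S.symm.exists_conj (g • Q)
  refine Sylow.smul_eq_iff_mem_normalizer.mp ?_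
  have hle : (Q : Subgroup H) ≤ ((g • Q : Sylow q H) : Subgroup H) := fun b hb => by
    have h1 := hxb b hb
    rwa [← Subgroup.mem_centralizer_iff.mp (h hx) b hb, mul_inv_cancel_right] at h1
  exact Sylow.ext (Q.3 (g • Q).2 hle)

theorem spreadP (S : Setup W P Q N) [Finite W] :
    Nat.card {w : W // w ≠ 1} *
        Nat.card (N ⊓ Subgroup.centralizer ((P : Subgroup H) : Set H) : Subgroup H) =
      Nat.card N * Nat.card {w : W // w ≠ 1 ∧ w ∈ fixW W (P : Subgroup H)} := by
  have := S.normalN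
  have hD : N ⊓ Subgroup.normalizer ((P : Subgroup H) : Set H) =
      N ⊓ Subgroup.centralizer ((P : Subgroup H) : Set H) :=
    le_antisymm (fun x hx => ⟨hx.1, mem_centralizer_of_mem_normalizer (S.disjoint le_sup_left)
      hx.1 hx.2⟩) (inf_le_inf_left _ (Subgroup.centralizer_le_normalizer _))
  rw [← hD]
  refine spread_count {w : W | w ≠ 1} (fun g _ w hw e => hw (by simpa using congrArg (g⁻¹ • ·) e))
    (fun w hw => ?_) fun g _ w hw h1 h2 => mem_normalizer_of_fix P S.stabP hw h1 h2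
  obtain ⟨P', hP', -, -⟩ := S.stabP w hw
  obtain ⟨x, hx, hxb⟩ := S.exists_conj P'
  refine ⟨x, hx, fun a ha => ?_⟩
  have h1 : (x * a * x⁻¹) • w = w := hP' (hxb a ha)
  rw [← mul_smul]
  conv_rhs => rw [← h1, ← mul_smul]
  congr 1
  group

/-- The vectors fixed by `P`, spread by the vectors fixed by `P` and `Q`. -/
theorem spreadA (S : Setup W P Q N) [Finite W] :
    Nat.card {w : W // w ≠ 1 ∧ w ∈ fixW W (P : Subgroup H)} *
        Nat.card (N ⊓ Subgroup.centralizer
          (((P : Subgroup H) ⊔ (Q : Subgroup H) : Subgroup H) : Set H) : Subgroup H) =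
      Nat.card (N ⊓ Subgroup.centralizer ((P : Subgroup H) : Set H) : Subgroup H) *
        Nat.card {w : W // w ≠ 1 ∧ w ∈ fixW W ((P : Subgroup H) ⊔ (Q : Subgroup H))} := by
  have := S.normalN
  have := S.normalK
  set A := (P : Subgroup H) ⊔ (Q : Subgroup H) with hA
  have hCA : Subgroup.centralizer (A : Set H) ≤ Subgroup.centralizer ((P : Subgroup H) : Set H) :=
    Subgroup.centralizer_le (SetLike.coe_subset_coe.mpr le_sup_left)
  have hD : (N ⊓ Subgroup.centralizer ((P : Subgroup H) : Set H)) ⊓ Subgroup.normalizer (A : Set H) =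
      N ⊓ Subgroup.centralizer (A : Set H) :=
    le_antisymm (fun x hx => ⟨hx.1.1, mem_centralizer_of_mem_normalizer (S.disjoint le_rfl)
      hx.1.1 hx.2⟩) (fun x hx => ⟨⟨hx.1, hCA hx.2⟩, Subgroup.centralizer_le_normalizer _ hx.2⟩)
  rw [← hD]
  have hset : ∀ w : W, w ∈ {w : W | w ≠ 1 ∧ w ∈ fixW W (P : Subgroup H)} ∧ w ∈ fixW W A ↔
      w ≠ 1 ∧ w ∈ fixW W A :=
    fun w => ⟨fun h => ⟨h.1.1, h.2⟩, fun h => ⟨⟨h.1, fixW_mono le_sup_left h.2⟩, h.2⟩⟩
  rw [← Nat.card_congr (Equiv.subtypeEquivRight hset)]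
  refine spread_count {w : W | w ≠ 1 ∧ w ∈ fixW W (P : Subgroup H)} ?_ ?_ ?_
  · exact fun g hg w hw => ⟨fun e => hw.1 (by simpa using congrArg (g⁻¹ • ·) e),
      smul_mem_fixW (Subgroup.centralizer_le_normalizer _ hg.2) hw.2⟩
  · rintro w ⟨hw, hwP⟩
    obtain ⟨Q', hQ', hQn, -⟩ := S.stabQ w hw
    obtain ⟨P', hP', hPn, -⟩ := S.stabP w hw
    have eP := sylow_eq_of_le_normalizer P' P ((le_stabilizer_of_mem_fixW hwP).trans hPn)
    have hdis : Disjoint (P : Subgroup H) (Q' : Subgroup H) :=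
      IsPGroup.disjoint_of_ne p q S.ne _ _ P.2 Q'.2
    have hQC : (Q' : Subgroup H) ≤ Subgroup.centralizer ((P : Subgroup H) : Set H) := fun b hb =>
      Subgroup.mem_centralizer_iff.mpr fun a ha => by
        have h1 := Subgroup.mem_normalizer_iff.mp (hQn (le_stabilizer_of_mem_fixW hwP ha)) b
        have h2 := Subgroup.mem_normalizer_iff.mp (eP.symm ▸ hPn (hQ' hb)) a⁻¹
        have h3 : a * b * a⁻¹ * b⁻¹ = 1 := Subgroup.disjoint_def.mp hdis
          (by
            rw [show a * b * a⁻¹ * b⁻¹ = a * (b * a⁻¹ * b⁻¹) by group]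
            exact mul_mem ha (h2.mp (inv_mem ha)))
          (mul_mem (h1.mp hb) (inv_mem hb))
        rw [mul_inv_eq_one, mul_inv_eq_iff_eq_mul] at h3
        exact h3
    have hQA : (Q : Subgroup H) ≤ N ⊔ A := le_sup_right.trans le_sup_right
    have hQM : (Q : Subgroup H) ≤ (N ⊔ A) ⊓ Subgroup.centralizer ((P : Subgroup H) : Set H) :=
      le_inf hQA (le_sup_right.trans S.sup_le_centralizerP)
    obtain ⟨x, hx, hxb⟩ := conj_sylow_mem Q Q' hQM (le_inf (sylow_le_of_normal Q Q' hQA) hQC)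
      (X := N ⊓ Subgroup.centralizer ((P : Subgroup H) : Set H)) fun k hk => by
        obtain ⟨y, hy, a, ha, e⟩ := S.decomp hk.1
        refine ⟨y, ⟨hy, ?_⟩, a, Subgroup.centralizer_le_normalizer _
          (S.symm.sup_le_centralizerP (sup_comm (P : Subgroup H) (Q : Subgroup H) ▸ ha)), e⟩
        rw [show y = k * a⁻¹ by rw [e, mul_inv_cancel_right]]
        exact Subgroup.mul_mem _ (Subgroup.mem_inf.mp hk).2 (Subgroup.inv_mem _ (S.sup_le_centralizerP ha))
    refine ⟨x, hx, ?_⟩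
    have h1 : (P : Subgroup H) ≤ MulAction.stabilizer H (x⁻¹ • w) := le_stabilizer_of_mem_fixW
      (smul_mem_fixW (Subgroup.inv_mem _ (Subgroup.centralizer_le_normalizer _ hx.2)) hwP)
    have h2 : (Q : Subgroup H) ≤ MulAction.stabilizer H (x⁻¹ • w) := fun a ha => by
      have h1 : (x * a * x⁻¹) • w = w := hQ' (hxb a ha)
      rw [MulAction.mem_stabilizer_iff, ← mul_smul]
      conv_rhs => rw [← h1, ← mul_smul]
      congr 1
      group
    exact sup_le h1 h2
  · rintro g hg w ⟨hw, -⟩ h1 h2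
    have hQ := mem_normalizer_of_fix Q S.stabQ hw (fixW_mono le_sup_right h1)
      (fixW_mono le_sup_right h2)
    exact Subgroup.centralizer_le_normalizer _
      (mem_centralizer_sup hg.2 (mem_centralizer_of_mem_normalizer (S.disjoint le_sup_right) hg.1 hQ))

end Setup

end CfsgLib.BlockB.Palfy
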