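import Cfsg.Agent.Lib.BlockB.Palfy.Basic

/-!
# Fixed subgroups in a module, spreads
-/

set_option autoImplicit false

namespace CfsgLib.BlockB.Palfy

universe u v

variable {H : Type u} [Group H] {W : Type v} [CommGroup W] [MulDistribMulAction H W]

/-- The vectors fixed by a subgroup. -/
def fixW (W : Type v) [CommGroup W] [MulDistribMulAction H W] (X : Subgroup H) : Subgroup W where
  carrier := {w | ∀ a ∈ X, a • w = w}
  one_mem' := fun a _ => smul_one a
  mul_mem' := fun {x y} hx hy a ha => by rw [smul_mul', hx a ha, hy a ha]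
  inv_mem' := fun {x} hx a ha => by rw [smul_inv', hx a ha]

theorem mem_fixW {X : Subgroup H} {w : W} : w ∈ fixW W X ↔ ∀ a ∈ X, a • w = w := Iff.rfl

theorem fixW_mono {X Y : Subgroup H} (h : X ≤ Y) : fixW W Y ≤ fixW W X :=
  fun _ hw a ha => hw a (h ha)

theorem le_stabilizer_of_mem_fixW {X : Subgroup H} {w : W} (h : w ∈ fixW W X) :
    X ≤ MulAction.stabilizer H w := h

/-- An element normalising `X` preserves the fixed vectors. -/
theorem smul_mem_fixW {X : Subgroup H} {h : H} (hh : h ∈ Subgroup.normalizer (X : Set H)) {w : W}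
    (hw : w ∈ fixW W X) : h • w ∈ fixW W X := fun a ha => by
  have h1 : h⁻¹ * a * h ∈ X := by
    rw [Subgroup.mem_normalizer_iff.mp hh, show h * (h⁻¹ * a * h) * h⁻¹ = a by group]
    exact ha
  calc a • h • w = h • (h⁻¹ * a * h) • w := by simp only [← mul_smul]; congr 1; group
    _ = h • w := by rw [hw _ h1]

/-- Vectors each fixed by a conjugate of `S` from `L`, unique up to the normaliser. -/
theorem spread_count [Finite H] [Finite W] {L S : Subgroup H} (T : Set W)
    (hL : ∀ g ∈ L, ∀ w ∈ T, g • w ∈ T)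
    (hex : ∀ w ∈ T, ∃ g ∈ L, g⁻¹ • w ∈ fixW W S)
    (huniq : ∀ g ∈ L, ∀ w ∈ T, w ∈ fixW W S → g • w ∈ fixW W S →
      g ∈ Subgroup.normalizer (S : Set H)) :
    Nat.card T * Nat.card (L ⊓ Subgroup.normalizer (S : Set H) : Subgroup H) =
      Nat.card L * Nat.card {w : W // w ∈ T ∧ w ∈ fixW W S} := by
  choose σ hσL hσ using hex
  set D := L ⊓ Subgroup.normalizer (S : Set H) with hD
  have hDL : ∀ d : D, (d : H) ∈ L := fun d => (Subgroup.mem_inf.mp d.2).1
  have hDN : ∀ d : D, (d : H) ∈ Subgroup.normalizer (S : Set H) :=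
    fun d => (Subgroup.mem_inf.mp d.2).2
  rw [← Nat.card_prod, ← Nat.card_prod]
  refine Nat.card_congr
    { toFun := fun x => (⟨σ x.1 x.1.2 * x.2, L.mul_mem (hσL _ _) (hDL _)⟩,
        ⟨(x.2 : H)⁻¹ • (σ x.1 x.1.2)⁻¹ • (x.1 : W),
          hL _ (L.inv_mem (hDL _)) _ (hL _ (L.inv_mem (hσL _ _)) _ x.1.2),
          smul_mem_fixW ((Subgroup.normalizer (S : Set H)).inv_mem (hDN _)) (hσ _ _)⟩)
      invFun := fun y => (⟨(y.1 : H) • (y.2 : W), hL _ y.1.2 _ y.2.2.1⟩,
        ⟨(σ _ (hL _ y.1.2 _ y.2.2.1))⁻¹ * y.1, Subgroup.mem_inf.mpr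
          ⟨L.mul_mem (L.inv_mem (hσL _ _)) y.1.2,
            huniq _ (L.mul_mem (L.inv_mem (hσL _ _)) y.1.2) _ y.2.2.1 y.2.2.2
              (by rw [mul_smul]; exact hσ _ _)⟩⟩)
      left_inv := fun x => ?_
      right_inv := fun y => ?_ }
  · obtain ⟨⟨t, ht⟩, ⟨d, hd⟩⟩ := x
    have e : (σ t ht * d) • d⁻¹ • (σ t ht)⁻¹ • t = t := by
      simp only [← mul_smul]
      rw [show σ t ht * d * (d⁻¹ * (σ t ht)⁻¹) = 1 by group, one_smul]
    refine Prod.ext (Subtype.ext e) (Subtype.ext ?_)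
    simp only [e]
    group
  · obtain ⟨⟨g, hg⟩, ⟨w, hw⟩⟩ := y
    refine Prod.ext (Subtype.ext ?_) (Subtype.ext ?_)
    · simp only [mul_inv_cancel_left]
    · simp only [← mul_smul]
      rw [inv_mul_cancel, one_smul]

omit [MulDistribMulAction H W] in
theorem card_diff_one [Finite W] {U : Subgroup W} :
    Nat.card {w : W // w ≠ 1 ∧ w ∈ U} + 1 = Nat.card U := by
  classical
  have h1 : Nat.card {w : W // w ≠ 1 ∧ w ∈ U} = ((U : Set W) \ {1}).ncard := by
    rw [← Nat.card_coe_set_eq]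
    exact Nat.card_congr (Equiv.subtypeEquivRight fun w => ⟨fun h => ⟨h.2, h.1⟩, fun h => ⟨h.2, h.1⟩⟩)
  rw [h1, Set.ncard_sdiff_singleton_add_one (one_mem U), ← Nat.card_coe_set_eq]
  rfl

theorem eq_of_pow_sub_one_dvd {ℓ a n : ℕ} (hℓ : 1 < ℓ) (h : ℓ ^ a - 1 ∣ ℓ ^ n - 1) : a ∣ n := by
  have h1 := Nat.gcd_eq_left h
  rw [Nat.pow_sub_one_gcd_pow_sub_one] at h1
  have h2 : ℓ ^ Nat.gcd a n = ℓ ^ a := by
    have h3 := Nat.one_le_pow (Nat.gcd a n) ℓ (by omega)
    have h4 := Nat.one_le_pow a ℓ (by omega)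
    omega
  rw [← Nat.pow_right_injective hℓ h2]
  exact Nat.gcd_dvd_right a n

/-- Two spreads with the same number of members have the same dimension. -/
theorem exponent_eq {r c d n m N : ℕ} (hr : 1 < r) (hN : 1 < N) (hc : 0 < c) (hd : 0 < d)
    (h1 : N * (r ^ c - 1) = r ^ n - 1) (h2 : N * (r ^ d - 1) = r ^ m - 1) : n = m := by
  obtain ⟨hnc, hmd⟩ : c < n ∧ d < m := by
    constructor <;> by_contra hcon
    · have h3 := Nat.pow_le_pow_right (n := r) (by omega) (not_lt.mp hcon)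
      have h4 : r ^ c - 1 < N * (r ^ c - 1) := by
        have := Nat.one_lt_pow hc.ne' hr
        exact lt_mul_left (by omega) hN
      omega
    · have h3 := Nat.pow_le_pow_right (n := r) (by omega) (not_lt.mp hcon)
      have h4 : r ^ d - 1 < N * (r ^ d - 1) := by
        have := Nat.one_lt_pow hd.ne' hr
        exact lt_mul_left (by omega) hN
      omega
  have key : ∀ {c d n m : ℕ}, c < n → d < m → c < d → N * (r ^ c - 1) = r ^ n - 1 →
      N * (r ^ d - 1) = r ^ m - 1 → False := by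
    intro c d n m hnc hmd hcd h1 h2
    have g1 : ((N : ℤ) * ((r : ℤ) ^ c - 1)) = (r : ℤ) ^ n - 1 := by
      have := congrArg (Nat.cast (R := ℤ)) h1
      push_cast [Nat.one_le_pow c r (by omega), Nat.one_le_pow n r (by omega)] at this
      exact this
    have g2 : ((N : ℤ) * ((r : ℤ) ^ d - 1)) = (r : ℤ) ^ m - 1 := by
      have := congrArg (Nat.cast (R := ℤ)) h2
      push_cast [Nat.one_le_pow d r (by omega), Nat.one_le_pow m r (by omega)] at this
      exact this
    obtain ⟨a, rfl⟩ : ∃ a, n = c + 1 + a := ⟨n - (c + 1), by omega⟩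
    obtain ⟨b, rfl⟩ : ∃ b, d = c + 1 + b := ⟨d - (c + 1), by omega⟩
    obtain ⟨e, rfl⟩ : ∃ e, m = c + 1 + e := ⟨m - (c + 1), by omega⟩
    have hne : (r : ℤ) ^ c ≠ 0 := pow_ne_zero _ (by exact_mod_cast (by omega : r ≠ 0))
    have e1 : ((r : ℤ) ^ c) * (r * (r ^ a * r ^ (c + 1 + b) - r ^ a - r ^ b + r ^ e)) =
        r ^ c * (r * (r ^ c * r ^ e) - 1) := by
      have : ((r : ℤ) ^ (c + 1 + a) - 1) * (r ^ (c + 1 + b) - 1) =
          (r ^ (c + 1 + e) - 1) * (r ^ c - 1) := by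
        rw [← g1, ← g2]; ring
      linear_combination this
    have e2 := mul_left_cancel₀ hne e1
    have : (r : ℤ) ∣ 1 := ⟨(r : ℤ) ^ c * r ^ e - (r ^ a * r ^ (c + 1 + b) - r ^ a - r ^ b + r ^ e),
      by linear_combination e2⟩
    have := Int.le_of_dvd one_pos this
    omega
  rcases lt_trichotomy c d with h | h | h
  · exact (key hnc hmd h h1 h2).elim
  · subst h
    have : r ^ n = r ^ m := by
      have := Nat.one_le_pow n r (by omega)
      have := Nat.one_le_pow m r (by omega)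
      omega
    exact Nat.pow_right_injective hr this
  · exact (key hmd hnc h h2 h1).elim

end CfsgLib.BlockB.Palfy
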