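import Cfsg.Agent.Lib.BlockB.Palfy.NormalMain
import Cfsg.Agent.Lib.Solvable.Frattini
import Cfsg.Agent.Lib.Solvable.MinNormal

/-!
# Pálfy's three primes theorem

Two of any three primes dividing irreducible degrees of a solvable group have their product
dividing one.
-/

set_option autoImplicit false

namespace CfsgLib.BlockB.Palfy

open CfsgLib CfsgLib.Clifford

universe u v

theorem primeTo_of_surjective {G : Type u} {H : Type v} [Group G] [Finite G] [Group H] {p : ℕ}
    (h : Degrees.PrimeTo p G) (f : G →* H) (hf : Function.Surjective f) : Degrees.PrimeTo p H :=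
  fun ψ hψ hd => h _ (Char.isIrrCharacter_comp_surjective hψ f hf)
    (by rwa [charDegree_comp_surjective f hf hψ])

variable {G : Type u} [Group G] [Finite G]

theorem sylow_normal_of_le_abelian {p : ℕ} [Fact p.Prime] (T : Sylow p G) (V : Subgroup G)
    [V.Normal] (hV : ∀ a ∈ V, ∀ b ∈ V, a * b = b * a) (h : (T : Subgroup G) ≤ V) :
    (T : Subgroup G).Normal :=
  normal_of_centralized T V (by rwa [sup_eq_left.mpr h])
    (fun a ha => Subgroup.mem_centralizer_iff.mpr fun b hb => hV b (h hb) a ha)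

theorem sup_normal_of_primeTo [Group.IsSolvable G] {t : ℕ} [Fact t.Prime] (V : Subgroup G)
    [V.Normal] (h : Degrees.PrimeTo t (G ⧸ V)) (T : Sylow t G) :
    (V ⊔ (T : Subgroup G)).Normal := by
  obtain ⟨S, hS, -⟩ := exists_sylow_of_primeTo h
  have hT : (T : Subgroup G).map (QuotientGroup.mk' V) = S :=
    sylow_eq_of_le_normalizer S (T.mapSurjective (QuotientGroup.mk'_surjective V))
      (Subgroup.normalizer_eq_top (H := (S : Subgroup (G ⧸ V))) ▸ le_top)
  have : (V ⊔ (T : Subgroup G)) =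
      ((T : Subgroup G).map (QuotientGroup.mk' V)).comap (QuotientGroup.mk' V) := by
    rw [Subgroup.comap_map_eq, QuotientGroup.ker_mk', sup_comm]
  rw [this, hT]
  exact hS.comap _

/-- A non-normal Sylow subgroup that is normal modulo an abelian `V` moves a character of `V`. -/
theorem exists_dvd_index {t : ℕ} [Fact t.Prime] (T : Sylow t G) (V : Subgroup G) [V.Normal]
    (hV : ∀ a ∈ V, ∀ b ∈ V, a * b = b * a) (hn : (V ⊔ (T : Subgroup G)).Normal)
    (hT : ¬ (T : Subgroup G).Normal) :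
    ∃ lam : V →* ℂˣ, t ∣ (inertia (linFn lam)).index := by
  by_contra! hall
  refine hT (normal_of_centralized T V hn fun v hv => Subgroup.mem_centralizer_iff.mpr fun b hb => ?_)
  by_contra hne
  obtain ⟨lam, hlam⟩ := Char.exists_linear_ne_one (fun a c => Subtype.ext (hV a a.2 c c.2))
    (g := conjN b (⟨v, hv⟩ : V) * (⟨v, hv⟩ : V)⁻¹) fun e => by
      have e' := congrArg Subtype.val (mul_inv_eq_one.mp e)
      rw [coe_conjN, mul_inv_eq_iff_eq_mul] at e'
      exact hne e'
  obtain ⟨T', hT'⟩ := exists_sylow_le (hall lam)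
  obtain ⟨x, hx, hxb⟩ := exists_conj_of_sup_normal T T' V hn
  have hVI : V ≤ inertia (linFn lam) := le_inertia
    (Char.irr_isClassFunction (Char.isIrrCharacter_linear lam))
  have hb' : b ∈ inertia (linFn lam) := by
    rw [show b = x⁻¹ * (x * b * x⁻¹) * x by group]
    exact mul_mem (mul_mem (inv_mem (hVI hx)) (hT' (hxb b hb))) (hVI hx)
  exact hlam (by rw [map_mul, mem_inertia_linFn.mp hb', map_inv, mul_inv_cancel])

/-- Two minimal normal subgroups cannot lose primes. -/
theorem false_of_two_minimal [Group.IsSolvable G] {t u : ℕ} [ht : Fact t.Prime] [hu : Fact u.Prime]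
    (hav : t = u ∨ Avoid t u G) (V U : Subgroup G) [V.Normal] [U.Normal] (hVU : V ⊓ U = ⊥)
    (hV : ∀ a ∈ V, ∀ b ∈ V, a * b = b * a) (hU : ∀ a ∈ U, ∀ b ∈ U, a * b = b * a)
    (hVt : Degrees.PrimeTo t (G ⧸ V)) (hUu : Degrees.PrimeTo u (G ⧸ U))
    (hnt : ∀ T : Sylow t G, ¬ (T : Subgroup G).Normal)
    (hnu : ∀ T : Sylow u G, ¬ (T : Subgroup G).Normal) : False := by
  classical
  obtain ⟨T⟩ : Nonempty (Sylow t G) := inferInstance
  obtain ⟨T'⟩ : Nonempty (Sylow u G) := inferInstance
  have h1 := sup_normal_of_primeTo V hVt T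
  have h2 := sup_normal_of_primeTo U hUu T'
  by_cases htu : t = u
  · subst htu
    have h2' := sup_normal_of_primeTo U hUu T
    set K := (V ⊔ (T : Subgroup G)) ⊓ (U ⊔ (T : Subgroup G)) with hK
    have hKp : IsPGroup t K := by
      have key : ∀ (N : Subgroup G) [N.Normal] (x : G), x ∈ N ⊔ (T : Subgroup G) →
          ∃ i, x ^ t ^ i ∈ N := by
        intro N _ x hx
        obtain ⟨n, hn, a, ha, rfl⟩ := Subgroup.mem_sup_of_normal_left.mp hx
        obtain ⟨i, hi⟩ := T.2 ⟨a, ha⟩
        refine ⟨i, (QuotientGroup.eq_one_iff _).mp ?_⟩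
        have hi' : a ^ t ^ i = 1 := congrArg Subtype.val hi
        rw [QuotientGroup.mk_pow, QuotientGroup.mk_mul, (QuotientGroup.eq_one_iff n).mpr hn,
          one_mul, ← QuotientGroup.mk_pow, hi', QuotientGroup.mk_one]
      intro x
      obtain ⟨hxV, hxU⟩ := Subgroup.mem_inf.mp x.2
      obtain ⟨i, hi⟩ := key V x hxV
      obtain ⟨j, hj⟩ := key U x hxU
      refine ⟨i + j, Subtype.ext ?_⟩
      rw [Subgroup.coe_pow, Subgroup.coe_one, ← Subgroup.mem_bot, ← hVU, Subgroup.mem_inf]
      constructor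
      · rw [pow_add, pow_mul]; exact pow_mem hi _
      · rw [pow_add, mul_comm, pow_mul]; exact pow_mem hj _
    have e := T.3 hKp (le_inf le_sup_right le_sup_right)
    exact hnt T (e ▸ Subgroup.normal_inf_normal _ _)
  obtain ⟨lam, hlam⟩ := exists_dvd_index T V hV h1 (hnt T)
  obtain ⟨mu, hmu⟩ := exists_dvd_index T' U hU h2 (hnu T')
  have hcomm : ∀ (a : V) (b : U), Commute (a : G) (b : G) := fun a b =>
    Subgroup.commute_of_normal_of_disjoint V U ‹_› ‹_› (disjoint_iff.mpr hVU) a b a.2 b.2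
  let f : V × U →* G := MonoidHom.noncommCoprod V.subtype U.subtype hcomm
  have hf : ∀ x : V × U, f x = (x.1 : G) * x.2 := fun _ => rfl
  have hfi : Function.Injective f := by
    rw [← MonoidHom.ker_eq_bot_iff, eq_bot_iff]
    intro x hx
    rw [MonoidHom.mem_ker, hf] at hx
    have h3 : (x.1 : G) = (x.2 : G)⁻¹ := eq_inv_of_mul_eq_one_left hx
    have h4 : (x.1 : G) ∈ V ⊓ U := Subgroup.mem_inf.mpr ⟨x.1.2, h3 ▸ U.inv_mem x.2.2⟩
    rw [hVU, Subgroup.mem_bot] at h4
    rw [h4, one_mul] at hx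
    exact Subgroup.mem_bot.mpr (Prod.ext (Subtype.ext h4) (Subtype.ext hx))
  have hrange : f.range = V ⊔ U := by
    refine le_antisymm ?_ (sup_le (fun v hv => ⟨(⟨v, hv⟩, 1), by simp [hf]⟩)
      (fun w hw => ⟨(1, ⟨w, hw⟩), by simp [hf]⟩))
    rintro _ ⟨x, rfl⟩
    exact Subgroup.mul_mem_sup x.1.2 x.2.2
  let e : V × U ≃* (V ⊔ U : Subgroup G) :=
    (MonoidHom.ofInjective hfi).trans (MulEquiv.subgroupCongr hrange)
  let nu : (V ⊔ U : Subgroup G) →* ℂˣ := (MonoidHom.coprod lam mu).comp e.symm.toMonoidHom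
  have hnuV : ∀ v : V, nu ⟨v, Subgroup.mem_sup_left v.2⟩ = lam v := fun v => by
    have he : e.symm ⟨v, Subgroup.mem_sup_left v.2⟩ = (v, 1) :=
      (MulEquiv.symm_apply_eq e).mpr (Subtype.ext (by
        show (v : G) = f (v, 1)
        rw [hf]; simp))
    show (MonoidHom.coprod lam mu) (e.symm _) = _
    rw [he]; simp
  have hnuU : ∀ w : U, nu ⟨w, Subgroup.mem_sup_right w.2⟩ = mu w := fun w => by
    have he : e.symm ⟨w, Subgroup.mem_sup_right w.2⟩ = (1, w) :=
      (MulEquiv.symm_apply_eq e).mpr (Subtype.ext (by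
        show (w : G) = f (1, w)
        rw [hf]; simp))
    show (MonoidHom.coprod lam mu) (e.symm _) = _
    rw [he]; simp
  have hiV : inertia (linFn nu) ≤ inertia (linFn lam) := fun g hg =>
    mem_inertia_linFn.mpr fun v => by
      rw [← hnuV, ← hnuV]
      exact mem_inertia_linFn.mp hg ⟨v, Subgroup.mem_sup_left v.2⟩
  have hiU : inertia (linFn nu) ≤ inertia (linFn mu) := fun g hg =>
    mem_inertia_linFn.mpr fun w => by
      rw [← hnuU, ← hnuU]
      exact mem_inertia_linFn.mp hg ⟨w, Subgroup.mem_sup_right w.2⟩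
  exact (hav.resolve_left htu).not_dvd_index_inertia (V ⊔ U) (Char.isIrrCharacter_linear nu)
    (Dvd.dvd.mul_right (((Nat.coprime_primes ht.out hu.out).mpr htu).mul_dvd_of_dvd_of_dvd
      (hlam.trans (Subgroup.index_dvd_of_le hiV)) (hmu.trans (Subgroup.index_dvd_of_le hiU))) _)

/-- The monolithic case. -/
theorem false_of_monolith [Group.IsSolvable G] {p q r : ℕ} [Fact p.Prime] [Fact q.Prime]
    [Fact r.Prime] (hpq : p ≠ q) (hqr : q ≠ r) (hpr : p ≠ r) (apq : Avoid p q G) (aqr : Avoid q r G)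
    (apr : Avoid p r G)
    (hnp : ∀ T : Sylow p G, ¬ (T : Subgroup G).Normal)
    (hnq : ∀ T : Sylow q G, ¬ (T : Subgroup G).Normal)
    (hnr : ∀ T : Sylow r G, ¬ (T : Subgroup G).Normal)
    (V : Subgroup G) [V.Normal] (hVne : V ≠ ⊥) (hV : ∀ a ∈ V, ∀ b ∈ V, a * b = b * a) {ℓ : ℕ}
    (hℓ : ℓ.Prime) (hVℓ : IsPGroup ℓ V)
    (hmono : ∀ K : Subgroup G, K.Normal → K ≠ ⊥ → V ≤ K)
    {H : Subgroup G} (hH : H.IsComplement' V) (hlose : Degrees.PrimeTo r (G ⧸ V)) : False := by
  classical
  have : Fact ℓ.Prime := ⟨hℓ⟩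
  obtain ⟨π, hker, hret⟩ := exists_proj hH
  have hsurj := proj_surjective π hret
  have hcenH : H ⊓ Subgroup.centralizer (V : Set G) = ⊥ := by
    by_contra hne
    have hn : (H ⊓ Subgroup.centralizer (V : Set G)).Normal := by
      rw [← Subgroup.normalizer_eq_top_iff, eq_top_iff, ← hH.sup_eq_top]
      refine sup_le (fun h hh => Subgroup.mem_normalizer_iff.mpr fun x => ?_)
        (fun v hv => Subgroup.centralizer_le_normalizer _ ?_)
      · rw [Subgroup.mem_inf, Subgroup.mem_inf]
        have hCn : (Subgroup.centralizer (V : Set G)).Normal := inferInstance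
        refine and_congr ?_ ⟨fun h' => hCn.conj_mem x h' h, fun h' => ?_⟩
        · rw [H.mul_mem_cancel_right (inv_mem hh), H.mul_mem_cancel_left hh]
        · have := hCn.conj_mem _ h' h⁻¹
          rwa [show h⁻¹ * (h * x * h⁻¹) * h⁻¹⁻¹ = x by group] at this
      · exact Subgroup.mem_centralizer_iff.mpr fun x hx =>
          (Subgroup.mem_centralizer_iff.mp (Subgroup.mem_inf.mp hx).2 v hv).symm
    exact hVne (eq_bot_iff.mpr fun v hv => Subgroup.mem_bot.mpr
      (Subgroup.disjoint_def.mp hH.disjoint (Subgroup.mem_inf.mp (hmono _ hn hne hv)).1 hv))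
  have heff : ∀ a : H, (∀ v : V, conjN (a : G) v = v) → a = 1 := fun a ha => by
    have h1 : (a : G) ∈ H ⊓ Subgroup.centralizer (V : Set G) :=
      ⟨a.2, Subgroup.mem_centralizer_iff.mpr fun v hv => by
        have h2 : (a : G) * v * (a : G)⁻¹ = v := congrArg Subtype.val (ha ⟨v, hv⟩)
        rw [mul_inv_eq_iff_eq_mul] at h2
        exact h2.symm⟩
    rw [hcenH, Subgroup.mem_bot] at h1
    exact Subtype.ext h1
  have hVc : ∀ a b : V, a * b = b * a := fun a b => Subtype.ext (hV a a.2 b b.2)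
  letI := dualAction H V
  set W := V →* ℂˣ
  have : Finite W := finite_linear
  -- a trivial Sylow subgroup of the complement gives a normal one
  have hbot : ∀ {t : ℕ} [Fact t.Prime] (S : Sylow t H), (S : Subgroup H) = ⊥ →
      ∃ T : Sylow t G, (T : Subgroup G).Normal := by
    intro t _ S hS
    obtain ⟨T⟩ : Nonempty (Sylow t G) := inferInstance
    refine ⟨T, sylow_normal_of_le_abelian T V hV ?_⟩
    have e := sylow_eq_of_le_normalizer S (T.mapSurjective hsurj)
      (by rw [hS, Subgroup.normalizer_eq_top]; exact le_top)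
    intro x hx
    have h1 : π x ∈ (S : Subgroup H) := e.le ⟨x, hx, rfl⟩
    rw [hS, Subgroup.mem_bot] at h1
    exact hker.le h1
  obtain ⟨RH, hRn, -⟩ := exists_sylow_of_primeTo (G := H)
    (primeTo_of_surjective hlose hH.QuotientMulEquiv.toMonoidHom hH.QuotientMulEquiv.surjective)
  have hfree : ∀ lam : W, lam ≠ 1 → r ∣ (inertia (linFn lam)).index := by
    intro lam hlam
    by_contra hd
    let F : Subgroup V :=
      { carrier := {v | ∀ μ : V →* ℂˣ, (∀ a ∈ (RH : Subgroup H), (a : G) ∈ inertia (linFn μ)) →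
          μ v = 1}
        one_mem' := fun μ _ => map_one μ
        mul_mem' := fun {x y} hx hy μ hμ => by rw [map_mul, hx μ hμ, hy μ hμ, mul_one]
        inv_mem' := fun {x} hx μ hμ => by rw [map_inv, hx μ hμ, inv_one] }
    have hfixlam := fixed_of_not_dvd π hker hret RH hRn (Char.isIrrCharacter_linear lam) hd
    have hFn : (F.map V.subtype).Normal := by
      refine ⟨fun x hx g => ?_⟩
      obtain ⟨v, hv, rfl⟩ := hx
      refine ⟨conjN g v, fun μ hμ => ?_, rfl⟩
      refine hv (μ.comp (MulAut.conjNormal (H := V) g).toMonoidHom) fun a ha => ?_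
      have hga : g * (a : G) * g⁻¹ ∈ inertia (linFn μ) := by
        have hVI : π.ker ≤ inertia (linFn μ) :=
          hker.le.trans (le_inertia (Char.irr_isClassFunction (Char.isIrrCharacter_linear μ)))
        rw [← Subgroup.comap_map_eq_self hVI, Subgroup.mem_comap]
        have h1 : π (g * (a : G) * g⁻¹) ∈ (RH : Subgroup H) := by
          rw [map_mul, map_mul, map_inv, hret]; exact hRn.conj_mem a ha _
        exact ⟨_, hμ _ h1, hret _⟩
      refine mem_inertia_linFn.mpr fun w => ?_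
      show μ (conjN g (conjN (a : G) w)) = μ (conjN g w)
      rw [← mem_inertia_linFn.mp hga (conjN g w)]
      exact congrArg μ (Subtype.ext (by simp [mul_assoc]))
    have hFbot : F.map V.subtype = ⊥ := by
      by_contra hne
      refine hlam (MonoidHom.ext fun v => ?_)
      obtain ⟨w, hw, e⟩ := hmono _ hFn hne v.2
      rw [show v = w from Subtype.ext e.symm]
      exact hw lam hfixlam
    refine hnr _ (hbot RH (eq_bot_iff.mpr fun a ha => Subgroup.mem_bot.mpr (heff a fun v => ?_))).choose_spec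
    have h1 : conjN (a : G) v * v⁻¹ ∈ F := fun μ hμ => by
      rw [map_mul, mem_inertia_linFn.mp (hμ a ha), map_inv, mul_inv_cancel]
    rw [(Subgroup.map_eq_bot_iff_of_injective F V.subtype_injective).mp hFbot, Subgroup.mem_bot,
      mul_inv_eq_one] at h1
    exact h1
  have hext : ∀ lam : W, ∃ Θ : inertia (linFn lam) → ℂ,
      Cfsg.IsCharacter (inertia (linFn lam)) Θ ∧
        ∀ (n : V) (t : inertia (linFn lam)), (t : G) = n → Θ t = linFn lam n := by
    intro lam
    have hmem : ∀ g : G, g * (π g : G)⁻¹ ∈ V := fun g => hker.le (by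
      rw [MonoidHom.mem_ker, map_mul, map_inv, hret, mul_inv_cancel])
    have hπI : ∀ g ∈ inertia (linFn lam), (π g : G) ∈ inertia (linFn lam) := fun g hg => by
      have h1 := le_inertia (Char.irr_isClassFunction (Char.isIrrCharacter_linear lam)) (hmem g)
      have h2 := mul_mem (inv_mem h1) hg
      rwa [mul_inv_rev, inv_inv, inv_mul_cancel_right] at h2
    let L : inertia (linFn lam) →* ℂˣ := MonoidHom.mk'
      (fun g => lam ⟨(g : G) * (π g : G)⁻¹, hmem g⟩) fun a b => by
        set y : V := ⟨(b : G) * (π b : G)⁻¹, hmem b⟩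
        rw [← mem_inertia_linFn.mp (hπI a a.2) y, ← map_mul]
        refine congrArg lam (Subtype.ext ?_)
        simp [y, mul_assoc]
    refine ⟨fun g => (L g : ℂ), Char.irr_isCharacter (Char.isIrrCharacter_linear L), fun n t ht => ?_⟩
    show ((lam ⟨(t : G) * (π t : G)⁻¹, hmem t⟩ : ℂˣ) : ℂ) = (lam n : ℂ)
    refine congrArg (fun x : V => ((lam x : ℂˣ) : ℂ)) (Subtype.ext ?_)
    show (t : G) * (π t : G)⁻¹ = n
    rw [ht, MonoidHom.mem_ker.mp (hker.symm.le n.2), Subgroup.coe_one, inv_one, mul_one]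
  have hst : ∀ {t : ℕ} [Fact t.Prime], t ≠ r → Avoid t r G → ∀ lam : W, lam ≠ 1 →
      StabSylow t (MulAction.stabilizer H lam) := by
    intro t _ htr hav lam hlam
    have e : (inertia (linFn lam)).map π = MulAction.stabilizer H lam := by
      ext a
      exact (mem_map_inertia π hker hret (θ := linFn lam)
        (Char.irr_isClassFunction (Char.isIrrCharacter_linear lam))).trans
          (mem_stabilizer_dual H V a lam).symm
    exact e ▸ stabSylow_of_ext π hker hret htr hav (Char.isIrrCharacter_linear lam) (hext lam)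
      ((hfree lam hlam).mul_right _)
  have : Nontrivial V := (Subgroup.nontrivial_iff_ne_bot V).mpr hVne
  have : Nontrivial W := by
    obtain ⟨v, hv⟩ := exists_ne (1 : V)
    obtain ⟨lam, hlam⟩ := Char.exists_linear_ne_one hVc hv
    exact ⟨⟨lam, 1, fun e => hlam (by rw [e, MonoidHom.one_apply])⟩⟩
  have kill : ∀ {t : ℕ} [Fact t.Prime], t ≠ r → Avoid t r G → ∀ S : Sylow t H,
      (S : Subgroup H).Normal → ∃ T : Sylow t G, (T : Subgroup G).Normal := by
    intro t _ htr hav S hS
    refine hbot S (eq_bot_iff.mpr fun a ha => Subgroup.mem_bot.mpr (heff a fun v => ?_))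
    by_contra hne
    obtain ⟨lam, hlam⟩ := Char.exists_linear_ne_one hVc
      (fun e : conjN (a : G) v * v⁻¹ = 1 => hne (mul_inv_eq_one.mp e))
    rcases eq_or_ne lam 1 with rfl | hl
    · exact hlam rfl
    obtain ⟨S', hS', -, -⟩ := hst htr hav lam hl
    rw [sylow_eq_of_le_normalizer S S'
      (Subgroup.normalizer_eq_top (H := (S : Subgroup H)) ▸ le_top)] at hS'
    have h1 := mem_inertia_linFn.mp ((mem_stabilizer_dual _ _ _ _).mp (hS' ha)) v
    rw [map_mul, h1, map_inv, mul_inv_cancel] at hlam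
    exact hlam rfl
  rcases core (H := H) (W := W) hℓ hpq (isPGroup_linear hVℓ) (apq.of_surjective π hsurj)
    (fun w hw => hst hpr apr w hw) (fun w hw => hst hqr aqr w hw) with ⟨S, hS⟩ | ⟨S, hS⟩
  · obtain ⟨T, hT⟩ := kill hpr apr S hS
    exact hnp T hT
  · obtain ⟨T, hT⟩ := kill hqr aqr S hS
    exact hnq T hT

/-- **Pálfy's three primes theorem**: one of the primes divides no degree. -/
theorem loses {p q r : ℕ} [hp : Fact p.Prime] [hq : Fact q.Prime] [hr : Fact r.Prime] (hpq : p ≠ q)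
    (hqr : q ≠ r) (hpr : p ≠ r) :
    ∀ (n : ℕ) (G : Type u) [Group G] [Finite G] [Group.IsSolvable G], Nat.card G = n →
      Avoid p q G → Avoid q r G → Avoid p r G →
      Degrees.PrimeTo p G ∨ Degrees.PrimeTo q G ∨ Degrees.PrimeTo r G := by
  intro n
  induction n using Nat.strong_induction_on with
  | _ n ih =>
  intro G _ _ _ hn apq aqr apr
  by_contra! hbad
  obtain ⟨hbp, hbq, hbr⟩ := hbad
  have hmin : ∀ N : Subgroup G, ∀ _ : N.Normal, N ≠ ⊥ →
      Degrees.PrimeTo p (G ⧸ N) ∨ Degrees.PrimeTo q (G ⧸ N) ∨ Degrees.PrimeTo r (G ⧸ N) := by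
    intro N _ hne
    refine ih _ ?_ (G ⧸ N) rfl (apq.quotient N) (aqr.quotient N) (apr.quotient N)
    rw [← hn, ← Subgroup.index_eq_card, ← N.index_mul_card]
    exact lt_mul_of_one_lt_right (Nat.pos_of_ne_zero Subgroup.index_ne_zero_of_finite)
      (N.one_lt_card_iff_ne_bot.mpr hne)
  by_cases hSp : ∃ T : Sylow p G, (T : Subgroup G).Normal
  · obtain ⟨T, hT⟩ := hSp
    exact false_of_normal_sylow hqr hpr.symm hpq.symm aqr apr.symm apq.symm hbq hbr hbp
      (fun N hN hne => by rcases hmin N hN hne with h | h | h <;> tauto) T hT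
  by_cases hSq : ∃ T : Sylow q G, (T : Subgroup G).Normal
  · obtain ⟨T, hT⟩ := hSq
    exact false_of_normal_sylow hpr hqr.symm hpq apr aqr.symm apq hbp hbr hbq
      (fun N hN hne => by rcases hmin N hN hne with h | h | h <;> tauto) T hT
  by_cases hSr : ∃ T : Sylow r G, (T : Subgroup G).Normal
  · obtain ⟨T, hT⟩ := hSr
    exact false_of_normal_sylow hpq hqr hpr apq aqr apr hbp hbq hbr hmin T hT
  push Not at hSp hSq hSr
  have lose : ∀ N : Subgroup G, ∀ _ : N.Normal, N ≠ ⊥ → ∃ t, ∃ _ : Fact t.Prime,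
      (t = p ∨ t = q ∨ t = r) ∧ Degrees.PrimeTo t (G ⧸ N) ∧
        ∀ T : Sylow t G, ¬ (T : Subgroup G).Normal := by
    intro N hN hne
    rcases hmin N hN hne with h | h | h
    · exact ⟨p, hp, Or.inl rfl, h, hSp⟩
    · exact ⟨q, hq, Or.inr (Or.inl rfl), h, hSq⟩
    · exact ⟨r, hr, Or.inr (Or.inr rfl), h, hSr⟩
  have : Nontrivial G := by
    rcases subsingleton_or_nontrivial G with h | h
    · exfalso
      obtain ⟨T⟩ : Nonempty (Sylow p G) := inferInstance
      exact hSp T ⟨fun x hx g => by rwa [Subsingleton.elim (g * x * g⁻¹) x]⟩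
    · exact h
  obtain ⟨V, hVn, hVne, hVmin⟩ := Solvable.exists_minimal_normal (G := G)
  have hab : ∀ U : Subgroup G, U.Normal → U ≠ ⊥ →
      (∀ K : Subgroup G, K.Normal → K ≤ U → K = ⊥ ∨ K = U) → ∀ a ∈ U, ∀ b ∈ U, a * b = b * a := by
    intro U hU hne hm a ha b hb
    have := Solvable.isMulCommutative_of_minimal_normal (N := U) hne hm
    exact congrArg Subtype.val (mul_comm' (⟨a, ha⟩ : U) ⟨b, hb⟩)
  have hVab := hab V hVn hVne hVmin
  obtain ⟨t, hFt, htm, htV, htn⟩ := lose V hVn hVne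
  have hmono : ∀ K : Subgroup G, K.Normal → K ≠ ⊥ → V ≤ K := by
    intro K hK hne
    obtain ⟨U, hU, hUne, hUK, hUmin⟩ := Solvable.exists_minimal_normal_le hK hne
    suffices V = U from this ▸ hUK
    by_contra hne'
    obtain ⟨u, hFu, hum, huU, hun⟩ := lose U hU hUne
    have hVU : V ⊓ U = ⊥ := by
      rcases hVmin (V ⊓ U) inferInstance inf_le_left with h | h
      · exact h
      · rcases hUmin V hVn (inf_eq_left.mp h) with h' | h'
        · exact absurd h' hVne
        · exact absurd h' hne'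
    refine false_of_two_minimal ?_ V U hVU hVab (hab U hU hUne hUmin) htV huU htn hun
    rcases htm with rfl | rfl | rfl <;> rcases hum with rfl | rfl | rfl
    exacts [Or.inl rfl, Or.inr apq, Or.inr apr, Or.inr apq.symm, Or.inl rfl, Or.inr aqr,
      Or.inr apr.symm, Or.inr aqr.symm, Or.inl rfl]
  have hPhi : V ⊓ frattini G = ⊥ := by
    rcases hVmin (V ⊓ frattini G) inferInstance inf_le_left with h | h
    · exact h
    exfalso
    obtain ⟨T⟩ : Nonempty (Sylow t G) := inferInstance
    refine htn T (Subgroup.normalizer_eq_top_iff.mp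
      (Solvable.eq_top_of_sup_eq_top_of_le_frattini (inf_eq_left.mp h)
        (Subgroup.eq_top_iff' _ |>.mpr fun g => ?_)))
    obtain ⟨x, hx, hxb⟩ := exists_conj_of_sup_normal T (g • T) V (sup_normal_of_primeTo V htV T)
    have hxn : g⁻¹ * x ∈ Subgroup.normalizer ((T : Subgroup G) : Set G) := by
      refine Sylow.smul_eq_iff_mem_normalizer.mp ?_
      rw [mul_smul, inv_smul_eq_iff]
      refine (Sylow.ext ((x • T).3 (g • T).2 fun y hy => ?_)).symm
      rw [Sylow.coe_subgroup_smul, Subgroup.mem_pointwise_smul_iff_inv_smul_mem] at hy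
      have h1 := hxb _ hy
      simpa [MulAut.smul_def, mul_assoc] using h1
    rw [show g = x * (g⁻¹ * x)⁻¹ by group]
    exact mul_mem (Subgroup.mem_sup_right hx) (inv_mem (Subgroup.mem_sup_left hxn))
  have : IsMulCommutative V := ⟨⟨fun a b => Subtype.ext (hVab a a.2 b b.2)⟩⟩
  obtain ⟨H, hH⟩ := Solvable.exists_isComplement'_of_inf_frattini hPhi
  obtain ⟨ℓ, hℓ, hVℓ, -, -⟩ := Solvable.exists_isPGroup_of_minimal_normal hVne hVmin
  rcases htm with rfl | rfl | rfl
  · exact false_of_monolith hqr hpr.symm hpq.symm aqr apr.symm apq.symm hSq hSr hSp V hVne hVab hℓ hVℓ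
      hmono hH.symm htV
  · exact false_of_monolith hpr hqr.symm hpq apr aqr.symm apq hSp hSr hSq V hVne hVab hℓ hVℓ
      hmono hH.symm htV
  · exact false_of_monolith hpq hqr hpr apq aqr apr hSp hSq hSr V hVne hVab hℓ hVℓ
      hmono hH.symm htV

end CfsgLib.BlockB.Palfy
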