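import Cfsg.Agent.Lib.BlockB.Palfy.Semi
import Cfsg.Agent.Lib.Char.Inner

/-!
# Pálfy's theorem when a Sylow subgroup is normal
-/

set_option autoImplicit false

namespace CfsgLib.BlockB.Palfy

open CfsgLib CfsgLib.Clifford
open scoped commutatorElement ComplexConjugate

universe u

variable {G : Type u} [Group G] [Finite G] {p q r : ℕ}

/-- The situation: `R` is a normal Sylow `r`-subgroup with central derived group, `H` a complement. -/
structure NormalData (p q r : ℕ) (R H : Subgroup G) (π : G →* H) : Prop where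
  avpq : Avoid p q G
  avqr : Avoid q r G
  avpr : Avoid p r G
  hp : ¬ Degrees.PrimeTo p G
  hq : ¬ Degrees.PrimeTo q G
  pq : p ≠ q
  qr : q ≠ r
  pr : p ≠ r
  normal : R.Normal
  pgroup : IsPGroup r R
  coprime : (Nat.card R).Coprime R.index
  noncomm : ⁅R, R⁆ ≠ ⊥
  central : R ≤ Subgroup.centralizer ((⁅R, R⁆ : Subgroup G) : Set G)
  compl : H.IsComplement' R
  ker : π.ker = R
  retract : ∀ x : H, π (x : G) = x

theorem NormalData.symm {R H : Subgroup G} {π : G →* H} (D : NormalData p q r R H π) :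
    NormalData q p r R H π :=
  { D with
    avpq := D.avpq.symm, avqr := D.avpr, avpr := D.avqr, hp := D.hq, hq := D.hp,
    pq := D.pq.symm, qr := D.pr, pr := D.qr }

theorem charDegree_eq_one_iff {N : Type u} [Group N] {θ : N → ℂ}
    (hθ : Cfsg.IsIrrCharacter N θ) : θ 1 = 1 ↔ Cfsg.charDegree θ = 1 := by
  rw [← BlockB.charDegree_cast (Char.irr_isCharacter hθ)]
  exact ⟨fun h => by exact_mod_cast h, fun h => by rw [h, Nat.cast_one]⟩

theorem dvd_charDegree [hr : Fact r.Prime] {N : Type u} [Group N] [Finite N] (h : IsPGroup r N)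
    {θ : N → ℂ} (hθ : Cfsg.IsIrrCharacter N θ) (h1 : θ 1 ≠ 1) : r ∣ Cfsg.charDegree θ := by
  obtain ⟨k, hk⟩ := IsPGroup.iff_card.mp h
  obtain ⟨j, -, hj⟩ := (Nat.dvd_prime_pow hr.out).mp (hk ▸ Degrees.charDegree_dvd_card hθ)
  rw [hj]
  refine dvd_pow_self _ fun e => h1 ((charDegree_eq_one_iff hθ).mpr ?_)
  rw [hj, e, pow_zero]

theorem mem_commutator_subgroup {R : Subgroup G} {x : R} :
    x ∈ commutator R ↔ (x : G) ∈ ⁅R, R⁆ := by
  rw [← R.map_subtype_commutator]
  exact (Subgroup.mem_map_iff_mem R.subtype_injective).symm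

/-- The group is the union of two subgroups only trivially. -/
theorem eq_top_or_eq_top {W : Type u} [Group W] {A B : Subgroup W} (h : ∀ x, x ∈ A ∨ x ∈ B) :
    A = ⊤ ∨ B = ⊤ := by
  by_contra! hc
  obtain ⟨x, hx⟩ : ∃ x, x ∉ A := by
    by_contra! e; exact hc.1 (Subgroup.eq_top_iff' A |>.mpr e)
  obtain ⟨y, hy⟩ : ∃ y, y ∉ B := by
    by_contra! e; exact hc.2 (Subgroup.eq_top_iff' B |>.mpr e)
  have hxB := (h x).resolve_left hx
  have hyA := (h y).resolve_right hy
  rcases h (x * y) with h' | h'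
  · exact hx ((A.mul_mem_cancel_right hyA).mp h')
  · exact hy ((B.mul_mem_cancel_left hxB).mp h')

namespace NormalData

variable [Fact p.Prime] [Fact q.Prime] [hr : Fact r.Prime] {R H : Subgroup G} [R.Normal]
  {π : G →* H}

/-- A normal abelian Sylow subgroup of the complement moves a linear character. -/
theorem not_centralize [Group.IsSolvable G] (D : NormalData p q r R H π) (P : Sylow p H)
    (hP : (P : Subgroup H).Normal)
    (hPc : ∀ x ∈ (P : Subgroup H), ∀ y ∈ (P : Subgroup H), x * y = y * x)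
    (h : ∀ a ∈ (P : Subgroup H), ∀ (μ : R →* ℂˣ) (x : R), μ (conjN (a : G) x) = μ x) : False := by
  obtain ⟨k, hk⟩ := IsPGroup.iff_card.mp D.pgroup
  set Pg := (P : Subgroup H).map H.subtype with hPg
  have hPgp : IsPGroup p Pg := P.2.map _
  have hidx : ¬ p ∣ Pg.index := by
    rw [hPg, Subgroup.index_map_subtype, D.compl.symm.index_eq_card, hk]
    intro hd
    rcases (Fact.out : p.Prime).dvd_mul.mp hd with h' | h'
    · exact P.not_dvd_index h'
    · exact D.pr ((Nat.prime_dvd_prime_iff_eq Fact.out hr.out).mp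
        ((Fact.out : p.Prime).dvd_of_dvd_pow h'))
  have : Group.IsNilpotent R := D.pgroup.isNilpotent
  have hcop : (Nat.card Pg).Coprime (Nat.card R) := by
    obtain ⟨j, hj⟩ := IsPGroup.iff_card.mp hPgp
    rw [hj, hk]
    exact Nat.Coprime.pow _ _ ((Nat.coprime_primes Fact.out hr.out).mpr D.pr)
  have hcen : Pg ≤ Subgroup.centralizer (R : Set G) := by
    refine coprime_centralizes R Pg hcop ?_
    rintro _ ⟨a, ha, rfl⟩ x hx
    have e : ⁅x, (a : G)⁆ = ((⟨x, hx⟩ * conjN (a : G) ⟨x, hx⟩⁻¹ : R) : G) := by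
      simp [commutatorElement_def, mul_assoc]
    rw [Subgroup.coe_subtype, e]
    refine mem_commutator_subgroup.mp ?_
    by_contra hn
    obtain ⟨μ, hμ⟩ := exists_linear_sep hn
    exact hμ (by rw [map_mul, h a ha μ, map_inv, mul_inv_cancel])
  refine D.hp (primeTo_of_centralized (hPgp.toSylow hidx) R ?_ ?_ ?_)
  · have e : R ⊔ Pg = (P : Subgroup H).comap π := by
      refine le_antisymm (sup_le ?_ ?_) fun t ht => ?_
      · intro t ht
        rw [Subgroup.mem_comap, MonoidHom.mem_ker.mp (D.ker.symm.le ht)]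
        exact one_mem _
      · rintro _ ⟨a, ha, rfl⟩
        rw [Subgroup.mem_comap, Subgroup.coe_subtype, D.retract]
        exact ha
      · rw [show t = t * (π t : G)⁻¹ * (π t : G) by group]
        refine mul_mem (Subgroup.mem_sup_left (D.ker.le ?_))
          (Subgroup.mem_sup_right ⟨π t, ht, rfl⟩)
        rw [MonoidHom.mem_ker, map_mul, map_inv, D.retract, mul_inv_cancel]
    rw [IsPGroup.toSylow_coe, e]
    exact hP.comap π
  · rw [IsPGroup.toSylow_coe]
    exact fun x hx => Subgroup.mem_centralizer_iff.mpr fun a ha =>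
      (Subgroup.mem_centralizer_iff.mp (hcen ha) x hx).symm
  · rw [IsPGroup.toSylow_coe]
    rintro _ ⟨x, hx, rfl⟩ _ ⟨y, hy, rfl⟩
    simp only [Subgroup.coe_subtype]
    rw [← Subgroup.coe_mul, ← Subgroup.coe_mul, hPc x hx y hy]

omit [Fact p.Prime] [Fact q.Prime] in
theorem commutator_hom (D : NormalData p q r R H π) (u : R) :
    ∃ B : R →* (⁅R, R⁆ : Subgroup G), ∀ y : R, (B y : G) = ⁅(u : G), (y : G)⁆ :=
  ⟨MonoidHom.mk' (fun y => ⟨⁅(u : G), (y : G)⁆, Subgroup.commutator_mem_commutator u.2 y.2⟩)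
    fun a b => Subtype.ext (by
      have h1 := Subgroup.mem_centralizer_iff.mp (D.central a.2) _
        (Subgroup.commutator_mem_commutator u.2 b.2)
      show ⁅(u : G), (a : G) * b⁆ = ⁅(u : G), (a : G)⁆ * ⁅(u : G), (b : G)⁆
      calc ⁅(u : G), (a : G) * b⁆
          = ⁅(u : G), (a : G)⁆ * ((a : G) * ⁅(u : G), (b : G)⁆ * (a : G)⁻¹) := by
            simp only [commutatorElement_def]; group
        _ = _ := by rw [← h1, mul_inv_cancel_right]), fun _ => rfl⟩

theorem stab_dual [Group.IsSolvable G] (D : NormalData p q r R H π) {t : ℕ} [Fact t.Prime]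
    (htr : t ≠ r) (hav : Avoid t r G) (lam : (⁅R, R⁆ : Subgroup G) →* ℂˣ) (hlam : lam ≠ 1) :
    letI := dualAction H ⁅R, R⁆
    StabSylow t (MulAction.stabilizer H lam) := by
  letI := dualAction H ⁅R, R⁆
  obtain ⟨θ, hθ, hI, hmul⟩ :=
    exists_theta R ⁅R, R⁆ (Subgroup.commutator_le_right R R) D.central D.coprime lam
  have h1 : θ 1 ≠ 1 := by
    intro e
    obtain ⟨μ, hμ⟩ := Char.exists_hom_of_degree_one (Char.irr_isCharacter hθ) e
    refine hlam (MonoidHom.ext fun w => Units.ext ?_)
    have h2 := hmul 1 w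
    rw [e, one_mul, mul_one, hμ] at h2
    have h3 : μ ⟨w, Subgroup.commutator_le_right R R w.2⟩ = 1 :=
      Char.linear_eq_one_of_mem_commutator μ (mem_commutator_subgroup.mpr w.2)
    simp only [h3] at h2
    exact h2.symm
  have hdvd := dvd_charDegree D.pgroup hθ h1
  have e : (inertia θ).map π = MulAction.stabilizer H lam := by
    ext a
    rw [mem_map_inertia π D.ker D.retract (Char.irr_isClassFunction hθ), hI, mem_stabilizer_dual]
  exact e ▸ stabSylow_over π D.ker D.retract htr hav D.coprime hθ (hdvd.mul_left _)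

/-- The Sylow `p`-subgroup of the complement cannot be normal. -/
theorem false_of_normal [Group.IsSolvable G] (D : NormalData p q r R H π) (P : Sylow p H)
    (hP : (P : Subgroup H).Normal) : False := by
  classical
  letI := dualAction H ⁅R, R⁆
  set W := (⁅R, R⁆ : Subgroup G) →* ℂˣ
  have hW0R : ⁅R, R⁆ ≤ R := Subgroup.commutator_le_right R R
  have hW0p : IsPGroup r (⁅R, R⁆ : Subgroup G) := D.pgroup.to_le hW0R
  have : Finite W := finite_linear
  have : Nontrivial (⁅R, R⁆ : Subgroup G) := (Subgroup.nontrivial_iff_ne_bot _).mpr D.noncomm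
  have hW0c : ∀ a b : (⁅R, R⁆ : Subgroup G), a * b = b * a := fun a b => Subtype.ext
    (Subgroup.mem_centralizer_iff.mp (D.central (hW0R b.2)) a a.2)
  obtain ⟨w0, hw0⟩ := exists_ne (1 : (⁅R, R⁆ : Subgroup G))
  obtain ⟨lam0, hlam0⟩ := Char.exists_linear_ne_one hW0c hw0
  have hlam0' : lam0 ≠ 1 := fun e => hlam0 (by rw [e, MonoidHom.one_apply])
  have hstP : ∀ w : W, w ≠ 1 → StabSylow p (MulAction.stabilizer H w) :=
    fun w hw => D.stab_dual D.pr D.avpr w hw
  have hstQ : ∀ w : W, w ≠ 1 → StabSylow q (MulAction.stabilizer H w) :=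
    fun w hw => D.stab_dual D.qr D.avqr w hw
  -- `P` is abelian and centralises the derived group
  have huniq : ∀ P' : Sylow p H, (P' : Subgroup H) = P := fun P' =>
    sylow_eq_of_le_normalizer P P' (Subgroup.normalizer_eq_top (H := (P : Subgroup H)) ▸ le_top)
  have hPc : ∀ x ∈ (P : Subgroup H), ∀ y ∈ (P : Subgroup H), x * y = y * x := by
    obtain ⟨P', -, -, h⟩ := hstP lam0 hlam0'
    rwa [huniq P'] at h
  have hPW0 : ∀ a ∈ (P : Subgroup H), ∀ w : (⁅R, R⁆ : Subgroup G), conjN (a : G) w = w := by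
    intro a ha w
    by_contra hne
    obtain ⟨lam, hlam⟩ := Char.exists_linear_ne_one hW0c
      (fun e : conjN (a : G) w * w⁻¹ = 1 => hne (mul_inv_eq_one.mp e))
    rcases eq_or_ne lam 1 with rfl | hl
    · exact hlam rfl
    obtain ⟨P', hP', -, -⟩ := hstP lam hl
    rw [huniq P'] at hP'
    have h1 := mem_inertia_linFn.mp ((mem_stabilizer_dual _ _ _ _).mp (hP' ha)) w
    rw [map_mul, h1, map_inv, mul_inv_cancel] at hlam
    exact hlam rfl
  have hfixθ : ∀ {θ : R → ℂ}, Cfsg.IsIrrCharacter R θ → θ 1 ≠ 1 →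
      ∀ a ∈ (P : Subgroup H), (a : G) ∈ inertia θ := by
    intro θ hθ h1
    refine fixed_of_not_dvd π D.ker D.retract P hP hθ fun hd => ?_
    exact D.avpr.not_dvd_index_inertia R hθ (mul_dvd_mul hd (dvd_charDegree D.pgroup hθ h1))
  have hlin : ∀ μ : R →* ℂˣ, Cfsg.IsIrrCharacter R (linFn μ) := fun μ =>
    Char.isIrrCharacter_linear μ
  obtain ⟨Q⟩ : Nonempty (Sylow q H) := inferInstance
  -- `Q` is not normal
  have hQn : ¬ (Q : Subgroup H).Normal := by
    intro hQ
    have hQc : ∀ x ∈ (Q : Subgroup H), ∀ y ∈ (Q : Subgroup H), x * y = y * x := by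
      obtain ⟨Q', -, -, h⟩ := hstQ lam0 hlam0'
      rwa [sylow_eq_of_le_normalizer Q Q'
        (Subgroup.normalizer_eq_top (H := (Q : Subgroup H)) ▸ le_top)] at h
    letI := dualAction H R
    have key : ∀ μ : R →* ℂˣ, μ ∈ fixW (R →* ℂˣ) (P : Subgroup H) ∨
        μ ∈ fixW (R →* ℂˣ) (Q : Subgroup H) := by
      intro μ
      by_cases hd : p ∣ (inertia (linFn μ)).index
      · refine Or.inr fun a ha => (mem_stabilizer_dual H R a μ).mpr
          (fixed_of_not_dvd π D.ker D.retract Q hQ (hlin μ) (fun hd' => ?_) a ha)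
        exact D.avpq.not_dvd_index_inertia R (hlin μ) (Dvd.dvd.mul_right
          (((Nat.coprime_primes Fact.out Fact.out).mpr D.pq).mul_dvd_of_dvd_of_dvd hd hd') _)
      · exact Or.inl fun a ha => (mem_stabilizer_dual H R a μ).mpr
          (fixed_of_not_dvd π D.ker D.retract P hP (hlin μ) hd a ha)
    rcases eq_top_or_eq_top key with h | h
    · exact D.not_centralize P hP hPc fun a ha μ x =>
        mem_inertia_linFn.mp ((mem_stabilizer_dual H R a μ).mp
          ((h.ge (Subgroup.mem_top μ)) a ha)) x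
    · exact D.symm.not_centralize Q hQ hQc fun a ha μ x =>
        mem_inertia_linFn.mp ((mem_stabilizer_dual H R a μ).mp
          ((h.ge (Subgroup.mem_top μ)) a ha)) x
  -- the elements centralised by `P` modulo the derived group
  let R1 : Subgroup R :=
    { carrier := {x | ∀ a ∈ (P : Subgroup H), ∀ μ : R →* ℂˣ, μ (conjN (a : G) x) = μ x}
      one_mem' := fun a _ μ => by rw [show conjN (a : G) (1 : R) = 1 from Subtype.ext (by simp)]
      mul_mem' := fun {x y} hx hy a ha μ => by
        rw [show conjN (a : G) (x * y) = conjN (a : G) x * conjN (a : G) y from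
          Subtype.ext (by simp [mul_assoc]), map_mul, map_mul, hx a ha, hy a ha]
      inv_mem' := fun {x} hx a ha μ => by
        rw [show conjN (a : G) x⁻¹ = (conjN (a : G) x)⁻¹ from
          Subtype.ext (by simp [mul_assoc]), map_inv, map_inv, hx a ha] }
  have hvanish : ∀ {θ : R → ℂ}, Cfsg.IsIrrCharacter R θ → θ 1 ≠ 1 →
      ∀ x, x ∉ R1 → θ x = 0 := by
    intro θ hθ h1 x hx
    obtain ⟨a, ha, μ, hμ⟩ : ∃ a ∈ (P : Subgroup H), ∃ μ : R →* ℂˣ,
        μ (conjN (a : G) x) ≠ μ x := by
      by_contra! e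
      exact hx e
    have hθμ : Cfsg.IsIrrCharacter R (fun g => (μ g : ℂ) * θ g) :=
      Char.isIrrCharacter_mul_linear hθ μ
    have e1 : θ (conjN (a : G) x) = θ x := hfixθ hθ h1 a ha x
    have e2 : (μ (conjN (a : G) x) : ℂ) * θ (conjN (a : G) x) = (μ x : ℂ) * θ x :=
      hfixθ hθμ (by simpa using h1) a ha x
    rw [e1] at e2
    by_contra hne
    exact hμ (Units.ext (mul_right_cancel₀ hne e2))
  obtain ⟨k, hk⟩ := IsPGroup.iff_card.mp D.pgroup
  obtain ⟨j, hj⟩ := IsPGroup.iff_card.mp P.2
  have hone : ∀ z : ℂˣ, z ^ Nat.card R = 1 → z ^ Nat.card (P : Subgroup H) = 1 → z = 1 := by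
    intro z h1 h2
    have h3 : z ^ (Nat.card R).gcd (Nat.card (P : Subgroup H)) = 1 := pow_gcd_eq_one.mpr ⟨h1, h2⟩
    rwa [show (Nat.card R).gcd (Nat.card (P : Subgroup H)) = 1 by
      rw [hk, hj]; exact Nat.Coprime.pow _ _ ((Nat.coprime_primes hr.out Fact.out).mpr D.pr.symm),
      pow_one] at h3
  -- the commutators with `P` are not all in `R1`
  obtain ⟨x, a, ha, hx0⟩ : ∃ (x : R) (a : H), a ∈ (P : Subgroup H) ∧
      conjN (a : G) x * x⁻¹ ∉ R1 := by
    by_contra! hall
    refine D.not_centralize P hP hPc fun a ha μ x => ?_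
    set z := μ (conjN (a : G) x * x⁻¹) with hz
    have hit : ∀ i : ℕ, μ (conjN ((a : G) ^ i) x) = z ^ i * μ x := by
      intro i
      induction i with
      | zero => rw [pow_zero, pow_zero, one_mul, conjN_one]
      | succ i ih =>
        have h1 := hall x a ha (a ^ i) (pow_mem ha i) μ
        rw [Subgroup.coe_pow, show conjN ((a : G) ^ i) (conjN (a : G) x * x⁻¹) =
          conjN ((a : G) ^ (i + 1)) x * (conjN ((a : G) ^ i) x)⁻¹ from
            Subtype.ext (by simp [pow_succ, mul_assoc]), map_mul, map_inv, ← hz,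
          mul_inv_eq_iff_eq_mul, ih] at h1
        rw [h1, pow_succ', mul_assoc]
    have hz1 : z ^ Nat.card (P : Subgroup H) = 1 := by
      have h1 := hit (Nat.card (P : Subgroup H))
      rw [← Subgroup.coe_pow, show a ^ Nat.card (P : Subgroup H) = 1 from
        congrArg Subtype.val (pow_card_eq_one' (G := (P : Subgroup H)) (x := ⟨a, ha⟩)),
        Subgroup.coe_one, conjN_one] at h1
      exact mul_eq_right.mp h1.symm
    have hz2 : z = 1 := hone z (by rw [hz, ← map_pow, pow_card_eq_one', map_one]) hz1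
    rw [hz, map_mul, map_inv, mul_inv_eq_one] at hz2
    exact hz2
  set x0 := conjN (a : G) x * x⁻¹ with hx0def
  -- the commutator map of `x0`
  obtain ⟨Φ, hΦ⟩ := D.commutator_hom x0
  have hΦ1 : ∀ y ∈ R1, Φ y = 1 := by
    intro y hy
    obtain ⟨Bx, hBx⟩ := D.commutator_hom x
    obtain ⟨By, hBy⟩ := D.commutator_hom y
    have hw : (y : R)⁻¹ * conjN (a : G) y ∈ commutator R := by
      by_contra hn
      obtain ⟨μ, hμ⟩ := exists_linear_sep hn
      exact hμ (by rw [map_mul, map_inv, hy a ha μ, inv_mul_cancel])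
    have h1 : By (conjN (a : G) x) = By x := by
      have e1 : ⁅(y : G), (a : G) * x * (a : G)⁻¹⁆ =
          ⁅(conjN (a : G) y : G), (conjN (a : G) x : G)⁆ := by
        have hc := D.central (conjN (a : G) x).2
        have hw' := Subgroup.mem_centralizer_iff.mp hc _ (mem_commutator_subgroup.mp hw)
        rw [show (conjN (a : G) y : G) = (y : G) * ((y⁻¹ * conjN (a : G) y : R) : G) by
          simp [mul_assoc]]
        set w := ((y⁻¹ * conjN (a : G) y : R) : G)
        simp only [coe_conjN] at hw' ⊢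
        calc ⁅(y : G), (a : G) * x * (a : G)⁻¹⁆
            = (y : G) * ((a : G) * x * (a : G)⁻¹) * (y : G)⁻¹ * ((a : G) * x * (a : G)⁻¹)⁻¹ :=
              commutatorElement_def _ _
          _ = (y : G) * (w * ((a : G) * x * (a : G)⁻¹) * w⁻¹) * (y : G)⁻¹ *
              ((a : G) * x * (a : G)⁻¹)⁻¹ := by rw [hw', mul_inv_cancel_right]
          _ = ⁅(y : G) * w, (a : G) * x * (a : G)⁻¹⁆ := by simp only [commutatorElement_def]; group
      refine Subtype.ext ?_
      rw [hBy, hBy, coe_conjN, e1]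
      have h2 := congrArg Subtype.val (hPW0 a ha (By x))
      rw [coe_conjN, hBy] at h2
      rw [← h2]
      simp only [coe_conjN, commutatorElement_def]
      group
    have h2 : By x0 = 1 := by rw [hx0def, map_mul, h1, map_inv, mul_inv_cancel]
    refine Subtype.ext ?_
    rw [hΦ, ← commutatorElement_inv, ← hBy, h2]
    simp
  -- column orthogonality: the commutator map is onto
  have := Fintype.ofFinite R
  have := Fintype.ofFinite (Cfsg.IrrCharacter R)
  have hC : Nat.card (Subgroup.centralizer ({x0} : Set R)) = (commutator R).index := by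
    have h1 := Char.column_orthogonality x0 x0
    rw [if_pos (IsConj.refl x0), ← Finset.sum_filter_of_ne
      (p := fun χ : Cfsg.IrrCharacter R => (χ : R → ℂ) 1 = 1) (fun χ _ hne => by
        by_contra h
        exact hne (by rw [hvanish χ.2 h x0 hx0, zero_mul]))] at h1
    rw [Finset.sum_congr rfl (g := fun _ => (1 : ℂ)) (fun χ hχ => by
      obtain ⟨μ, hμ⟩ := Char.exists_hom_of_degree_one (Char.irr_isCharacter χ.2)
        (Finset.mem_filter.mp hχ).2
      rw [hμ, Char.conj_linear_apply, MonoidHom.inv_apply, ← Units.val_mul, mul_inv_cancel,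
        Units.val_one]), Finset.sum_const, nsmul_one, Nat.cast_inj] at h1
    rw [← h1, ← Char.natCard_linearIrr, Nat.card_eq_fintype_card, Fintype.card_subtype]
  have hker : Φ.ker = Subgroup.centralizer ({x0} : Set R) := by
    ext y
    rw [MonoidHom.mem_ker, Subgroup.mem_centralizer_singleton_iff, Subtype.ext_iff, hΦ,
      Subgroup.coe_one, commutatorElement_eq_one_iff_mul_comm, Subtype.ext_iff, Subgroup.coe_mul,
      Subgroup.coe_mul]
    exact eq_comm
  have hsurj : Function.Surjective Φ := by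
    refine MonoidHom.range_eq_top.mp (Subgroup.eq_top_of_card_eq _ ?_)
    have e : Nat.card (commutator R) = Nat.card (⁅R, R⁆ : Subgroup G) := by
      rw [← R.map_subtype_commutator, Subgroup.card_map_of_injective R.subtype_injective]
    have h1 := Φ.ker.card_mul_index
    rw [Subgroup.index_ker, hker, hC] at h1
    have h2 := (commutator R).index_mul_card
    rw [e, ← h1] at h2
    exact (Nat.eq_of_mul_eq_mul_left (Nat.pos_of_ne_zero Subgroup.index_ne_zero_of_finite) h2).symm
  -- the linear characters trivial on `R1`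
  letI := dualAction H R
  let M : Subgroup (R →* ℂˣ) :=
    { carrier := {μ | ∀ y ∈ R1, μ y = 1}
      one_mem' := fun _ _ => rfl
      mul_mem' := fun {μ ν} hμ hν y hy => by rw [MonoidHom.mul_apply, hμ y hy, hν y hy, mul_one]
      inv_mem' := fun {μ} hμ y hy => by rw [MonoidHom.inv_apply, hμ y hy, inv_one] }
  have hR1H : ∀ (h : H), ∀ y ∈ R1, conjN (h : G) y ∈ R1 := by
    intro h y hy b hb μ
    have hb' : h⁻¹ * b * h ∈ (P : Subgroup H) := by
      have := hP.conj_mem b hb h⁻¹; rwa [inv_inv] at this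
    have h1 := hy _ hb' (μ.comp (MulAut.conjNormal (H := R) (h : G)).toMonoidHom)
    have e : ∀ z : R, (MulAut.conjNormal (H := R) (h : G)) z = conjN (h : G) z := fun z => rfl
    simp only [MonoidHom.comp_apply, MulEquiv.coe_toMonoidHom, e] at h1
    rw [← h1]
    exact congrArg μ (Subtype.ext (by simp [mul_assoc]))
  have hMs : ∀ (h : H) (μ : R →* ℂˣ), μ ∈ M → h • μ ∈ M := fun h μ hμ y hy => by
    rw [dual_smul_apply, ← Subgroup.coe_inv]
    exact hμ _ (hR1H h⁻¹ y hy)
  letI : MulDistribMulAction H M :=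
    { smul := fun h μ => ⟨h • (μ : R →* ℂˣ), hMs h μ μ.2⟩
      one_smul := fun μ => Subtype.ext (one_smul H (μ : R →* ℂˣ))
      mul_smul := fun g h μ => Subtype.ext (mul_smul g h (μ : R →* ℂˣ))
      smul_mul := fun h μ ν => Subtype.ext (smul_mul' h (μ : R →* ℂˣ) (ν : R →* ℂˣ))
      smul_one := fun h => Subtype.ext (smul_one h) }
  have : Finite (R →* ℂˣ) := finite_linear
  have hstM : ∀ μ : M, μ ≠ 1 → StabSylow q (MulAction.stabilizer H μ) := by
    intro μ hμ
    have e : MulAction.stabilizer H μ = (inertia (linFn (μ : R →* ℂˣ))).map π := by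
      ext b
      rw [mem_map_inertia π D.ker D.retract (Char.irr_isClassFunction (hlin _)),
        ← mem_stabilizer_dual H R b, MulAction.mem_stabilizer_iff, MulAction.mem_stabilizer_iff,
        Subtype.ext_iff]
      exact Iff.rfl
    rw [e]
    refine stabSylow_over π D.ker D.retract D.pq.symm D.avpq.symm D.coprime (hlin _)
      (Dvd.dvd.mul_right ?_ _)
    by_contra hd
    have hfix := fixed_of_not_dvd π D.ker D.retract P hP (hlin _) hd
    refine hμ (Subtype.ext (MonoidHom.ext fun y => ?_))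
    -- average over `P`
    have := Fintype.ofFinite (P : Subgroup H)
    set L := ((Finset.univ : Finset (P : Subgroup H)).toList.map
      fun b : (P : Subgroup H) => conjN ((b : H) : G) y) with hL
    have hprod : ∀ ν : R →* ℂˣ, ν L.prod = ∏ b : (P : Subgroup H), ν (conjN ((b : H) : G) y) := by
      intro ν
      rw [hL, map_list_prod, List.map_map]
      exact Finset.prod_map_toList _ _
    have hmem : L.prod ∈ R1 := by
      intro c hc ν
      have e : conjN (c : G) L.prod = (MulAut.conjNormal (H := R) (c : G)) L.prod := rfl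
      rw [e, ← MulEquiv.coe_toMonoidHom, ← MonoidHom.comp_apply, hprod, hprod]
      refine Fintype.prod_equiv (Equiv.mulLeft (⟨c, hc⟩ : (P : Subgroup H))) _ _ fun b => ?_
      refine congrArg ν (Subtype.ext ?_)
      simp [mul_assoc]
    have h1 := μ.2 _ hmem
    rw [hprod, Finset.prod_congr rfl (fun b _ => mem_inertia_linFn.mp (hfix b.1 b.2) y),
      Finset.prod_const, Finset.card_univ, ← Nat.card_eq_fintype_card] at h1
    exact hone _ (by rw [← map_pow, pow_card_eq_one', map_one]) h1
  -- the injection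
  let Ψ : W →* M :=
    { toFun := fun w => ⟨w.comp Φ, fun y hy => by rw [MonoidHom.comp_apply, hΦ1 y hy, map_one]⟩
      map_one' := rfl
      map_mul' := fun _ _ => rfl }
  have hΨi : Function.Injective Ψ := fun v w e =>
    (MonoidHom.cancel_right hsurj).mp (congrArg Subtype.val e)
  have hlt : Nat.card W < Nat.card M := by
    refine lt_of_le_of_ne (Nat.card_le_card_of_injective Ψ hΨi) fun e => ?_
    have hbij := (Nat.bijective_iff_injective_and_card Ψ).mpr ⟨hΨi, e⟩
    have hR1n : R1.Normal := by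
      refine ⟨fun y hy z b hb μ => ?_⟩
      rw [show conjN (b : G) (z * y * z⁻¹) =
        conjN (b : G) z * conjN (b : G) y * (conjN (b : G) z)⁻¹ from
          Subtype.ext (by simp [mul_assoc]), map_mul, map_mul, map_inv, map_mul, map_mul, map_inv,
        hy b hb, mul_inv_cancel_comm, mul_inv_cancel_comm]
    have hcomm : ∀ u v : R ⧸ R1, u * v = v * u := by
      intro u v
      obtain ⟨u, rfl⟩ := QuotientGroup.mk_surjective u
      obtain ⟨v, rfl⟩ := QuotientGroup.mk_surjective v
      rw [← QuotientGroup.mk_mul, ← QuotientGroup.mk_mul, QuotientGroup.eq]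
      intro b _ μ
      simp only [map_mul, map_inv, show conjN (b : G) ((u * v)⁻¹ * (v * u)) =
        ((conjN (b : G) u * conjN (b : G) v)⁻¹ * (conjN (b : G) v * conjN (b : G) u)) from
          Subtype.ext (by simp [mul_assoc])]
      rw [mul_comm (μ v) (μ u), inv_mul_cancel, mul_comm (μ (conjN (b : G) v)), inv_mul_cancel]
    obtain ⟨ν, hν⟩ := Char.exists_linear_ne_one hcomm
      (fun e : (x0 : R ⧸ R1) = 1 => hx0 ((QuotientGroup.eq_one_iff x0).mp e))
    obtain ⟨w, hw⟩ := hbij.2 ⟨ν.comp (QuotientGroup.mk' R1), fun y hy => by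
      rw [MonoidHom.comp_apply, QuotientGroup.mk'_apply, (QuotientGroup.eq_one_iff y).mpr hy,
        map_one]⟩
    refine hν ?_
    have h1 := DFunLike.congr_fun (congrArg Subtype.val hw) x0
    have h2 : Φ x0 = 1 := Subtype.ext (by rw [hΦ, commutatorElement_self]; rfl)
    simp only [Ψ, MonoidHom.coe_mk, OneHom.coe_mk, MonoidHom.comp_apply, h2, map_one] at h1
    exact h1.symm
  -- the two spreads
  obtain ⟨n, hn⟩ := IsPGroup.iff_card.mp (isPGroup_linear hW0p : IsPGroup r W)
  obtain ⟨m, hm⟩ := IsPGroup.iff_card.mp ((isPGroup_linear D.pgroup).to_subgroup M)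
  obtain ⟨c, hc⟩ := IsPGroup.iff_card.mp
    ((isPGroup_linear hW0p : IsPGroup r W).to_subgroup (fixW W (Q : Subgroup H)))
  obtain ⟨d, hd⟩ := IsPGroup.iff_card.mp
    (((isPGroup_linear D.pgroup).to_subgroup M).to_subgroup (fixW M (Q : Subgroup H)))
  have hN : 1 < (Subgroup.normalizer ((Q : Subgroup H) : Set H)).index :=
    Subgroup.one_lt_index_of_ne_top fun e => hQn (Subgroup.normalizer_eq_top_iff.mp e)
  have h1 := spread_sylow (W := W) Q (fun w hw => hstQ w hw)
  have h2 := spread_sylow (W := M) Q hstM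
  rw [hc, hn] at h1
  rw [hd, hm] at h2
  have : 1 < Nat.card W := Finite.one_lt_card_iff_nontrivial.mpr ⟨⟨lam0, 1, hlam0'⟩⟩
  rw [hn, hm] at hlt
  rw [hn] at this
  have e := exponent_eq hr.out.one_lt hN (Nat.pos_of_ne_zero fun e => ?_)
    (Nat.pos_of_ne_zero fun e => ?_) h1 h2
  · exact (hlt.ne (by rw [e])).elim
  · rw [e] at h1; simp at h1; omega
  · rw [e] at h2; simp at h2; omega

end NormalData

/-- A minimal counterexample has no normal Sylow subgroup for one of the three primes. -/
theorem false_of_normal_sylow [Group.IsSolvable G] [Fact p.Prime] [Fact q.Prime] [hr : Fact r.Prime]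
    (hpq : p ≠ q) (hqr : q ≠ r) (hpr : p ≠ r) (apq : Avoid p q G) (aqr : Avoid q r G)
    (apr : Avoid p r G) (hp : ¬ Degrees.PrimeTo p G) (hq : ¬ Degrees.PrimeTo q G)
    (hr' : ¬ Degrees.PrimeTo r G)
    (hmin : ∀ N : Subgroup G, ∀ _ : N.Normal, N ≠ ⊥ →
      Degrees.PrimeTo p (G ⧸ N) ∨ Degrees.PrimeTo q (G ⧸ N) ∨ Degrees.PrimeTo r (G ⧸ N))
    (Rs : Sylow r G) (hR : (Rs : Subgroup G).Normal) : False := by
  classical
  set R := (Rs : Subgroup G) with hRdef
  have hpg : IsPGroup r R := Rs.2
  have hcop : (Nat.card R).Coprime R.index := by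
    obtain ⟨k, hk⟩ := IsPGroup.iff_card.mp hpg
    rw [hk]
    exact (hr.out.coprime_iff_not_dvd.mpr Rs.not_dvd_index).pow_left _
  have hnc : ⁅R, R⁆ ≠ ⊥ := by
    intro e
    refine hr' (primeTo_of_sylow Rs hR fun x hx y hy => ?_)
    rw [← commutatorElement_eq_one_iff_mul_comm, ← Subgroup.mem_bot, ← e]
    exact Subgroup.commutator_mem_commutator hx hy
  have : Group.IsNilpotent R := hpg.isNilpotent
  have hW0R : ⁅R, R⁆ ≤ R := Subgroup.commutator_le_right R R
  set N := ⁅⁅R, R⁆, R⁆ with hN
  have hNle : N ≤ ⁅R, R⁆ := Subgroup.commutator_le_left _ _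
  have hcen : R ≤ Subgroup.centralizer ((⁅R, R⁆ : Subgroup G) : Set G) := by
    suffices N = ⊥ by
      exact Subgroup.le_centralizer_iff.mp (Subgroup.commutator_eq_bot_iff_le_centralizer.mp this)
    by_contra hne
    have hlt : ¬ ⁅R, R⁆ ≤ N := by
      intro hle
      refine hnc ?_
      have key : ∀ i, ⁅R, R⁆ ≤ Subgroup.lowerCentralSeries R i := by
        intro i
        induction i with
        | zero => exact hW0R
        | succ i ih => exact hle.trans (Subgroup.commutator_mono ih le_rfl)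
      obtain ⟨n, hn⟩ := (Subgroup.isNilpotent_iff_lowerCentralSeries R).mp ‹Group.IsNilpotent R›
      exact le_bot_iff.mp ((key n).trans hn.le)
    have hs := QuotientGroup.mk'_surjective N
    have case : ∀ t : ℕ, t ≠ r → t.Prime → ¬ Degrees.PrimeTo t G →
        Degrees.PrimeTo t (G ⧸ N) → False := by
      intro t htr ht hbad hgood
      have : Fact t.Prime := ⟨ht⟩
      obtain ⟨S, hSn, hSc⟩ := exists_sylow_of_primeTo hgood
      obtain ⟨T⟩ : Nonempty (Sylow t G) := inferInstance
      have hT : (T : Subgroup G).map (QuotientGroup.mk' N) = S :=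
        sylow_eq_of_le_normalizer S (T.mapSurjective hs)
          (Subgroup.normalizer_eq_top (H := (S : Subgroup (G ⧸ N))) ▸ le_top)
      have hdis : Disjoint R (T : Subgroup G) := IsPGroup.disjoint_of_ne r t htr.symm _ _ hpg T.2
      have hRT : (T : Subgroup G) ≤ Subgroup.centralizer (R : Set G) := by
        refine coprime_centralizes R (T : Subgroup G) ?_ fun a ha x hx => hNle ?_
        · obtain ⟨i, hi⟩ := IsPGroup.iff_card.mp T.2
          obtain ⟨k, hk⟩ := IsPGroup.iff_card.mp hpg
          rw [hi, hk]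
          exact Nat.Coprime.pow _ _ ((Nat.coprime_primes ht hr.out).mpr htr)
        · have h1 : QuotientGroup.mk' N ⁅x, a⁆ ∈
              (R.map (QuotientGroup.mk' N)) ⊓ (S : Subgroup (G ⧸ N)) := by
            rw [map_commutatorElement, Subgroup.mem_inf]
            have hRn : (R.map (QuotientGroup.mk' N)).Normal := hR.map _ hs
            have hxm : QuotientGroup.mk' N x ∈ R.map (QuotientGroup.mk' N) :=
              Subgroup.mem_map_of_mem _ hx
            have ham : QuotientGroup.mk' N a ∈ (S : Subgroup (G ⧸ N)) :=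
              hT ▸ Subgroup.mem_map_of_mem _ ha
            exact ⟨Subgroup.commutator_le_left (R.map (QuotientGroup.mk' N)) ⊤
                (Subgroup.commutator_mem_commutator hxm (Subgroup.mem_top _)),
              Subgroup.commutator_le_right ⊤ (S : Subgroup (G ⧸ N))
                (Subgroup.commutator_mem_commutator (Subgroup.mem_top _) ham)⟩
          have h2 := Subgroup.disjoint_def.mp
            (IsPGroup.disjoint_of_ne r t htr.symm _ _ (hpg.map _) S.2) h1.1 h1.2
          exact (QuotientGroup.eq_one_iff _).mp h2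
      refine hbad (primeTo_of_centralized T N ?_ ?_ fun x hx y hy => ?_)
      · have : (N ⊔ (T : Subgroup G)) =
            ((T : Subgroup G).map (QuotientGroup.mk' N)).comap (QuotientGroup.mk' N) := by
          rw [Subgroup.comap_map_eq, QuotientGroup.ker_mk', sup_comm]
        rw [this, hT]
        exact hSn.comap _
      · exact fun n hn => Subgroup.mem_centralizer_iff.mpr fun a ha =>
          (Subgroup.mem_centralizer_iff.mp (hRT ha) n (hW0R (hNle hn))).symm
      · have h1 : QuotientGroup.mk' N ⁅x, y⁆ = 1 := by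
          rw [map_commutatorElement, commutatorElement_eq_one_iff_mul_comm]
          exact hSc _ (hT ▸ Subgroup.mem_map_of_mem _ hx) _ (hT ▸ Subgroup.mem_map_of_mem _ hy)
        rw [← commutatorElement_eq_one_iff_mul_comm]
        exact Subgroup.disjoint_def.mp hdis (hW0R (hNle ((QuotientGroup.eq_one_iff _).mp h1)))
          (mul_mem (mul_mem (mul_mem hx hy) (inv_mem hx)) (inv_mem hy))
    rcases hmin N inferInstance hne with h | h | h
    · exact case p hpr Fact.out hp h
    · exact case q hqr Fact.out hq h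
    · obtain ⟨S, hSn, hSc⟩ := exists_sylow_of_primeTo h
      have hT : R.map (QuotientGroup.mk' N) = S :=
        sylow_eq_of_le_normalizer S (Rs.mapSurjective hs)
          (Subgroup.normalizer_eq_top (H := (S : Subgroup (G ⧸ N))) ▸ le_top)
      refine hlt (Subgroup.commutator_le.mpr fun x hx y hy => ?_)
      refine (QuotientGroup.eq_one_iff _).mp ?_
      show QuotientGroup.mk' N ⁅x, y⁆ = 1
      rw [map_commutatorElement, commutatorElement_eq_one_iff_mul_comm]
      exact hSc _ (hT ▸ Subgroup.mem_map_of_mem _ hx) _ (hT ▸ Subgroup.mem_map_of_mem _ hy)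
  obtain ⟨H, hH⟩ := Subgroup.exists_left_complement'_of_coprime hcop
  obtain ⟨π, hker, hret⟩ := exists_proj hH
  have D : NormalData p q r R H π :=
    ⟨apq, aqr, apr, hp, hq, hpq, hqr, hpr, hR, hpg, hcop, hnc, hcen, hH, hker, hret⟩
  letI := dualAction H ⁅R, R⁆
  have : Finite ((⁅R, R⁆ : Subgroup G) →* ℂˣ) := finite_linear
  have : Nontrivial ((⁅R, R⁆ : Subgroup G) →* ℂˣ) := by
    have : Nontrivial (⁅R, R⁆ : Subgroup G) := (Subgroup.nontrivial_iff_ne_bot _).mpr hnc
    obtain ⟨w, hw⟩ := exists_ne (1 : (⁅R, R⁆ : Subgroup G))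
    obtain ⟨lam, hlam⟩ := Char.exists_linear_ne_one (fun a b => Subtype.ext
      (Subgroup.mem_centralizer_iff.mp (hcen (hW0R b.2)) a a.2)) hw
    exact ⟨⟨lam, 1, fun e => hlam (by rw [e, MonoidHom.one_apply])⟩⟩
  rcases core (H := H) (W := (⁅R, R⁆ : Subgroup G) →* ℂˣ) hr.out hpq
    (isPGroup_linear (hpg.to_le hW0R)) (apq.of_surjective π (proj_surjective π hret))
    (fun w hw => D.stab_dual hpr apr w hw) (fun w hw => D.stab_dual hqr aqr w hw) with
    ⟨P, hP⟩ | ⟨Q, hQ⟩
  · exact D.false_of_normal P hP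
  · exact D.symm.false_of_normal Q hQ

end CfsgLib.BlockB.Palfy
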