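import Cfsg.Agent.Lib.BlockB.Palfy.Core
import Cfsg.Agent.Lib.Clifford.InvariantNormal
import Cfsg.Agent.Lib.Clifford.ExtendCoprime
import Cfsg.Agent.Lib.Char.Linear
import Cfsg.Agent.Lib.Char.LinearSum
import Cfsg.Agent.Lib.Solvable.Frattini2

/-!
# A group with a normal Hall subgroup, for Pálfy's theorem
-/

set_option autoImplicit false

namespace CfsgLib.BlockB.Palfy

open CfsgLib CfsgLib.Clifford
open scoped Pointwise commutatorElement

universe u v

variable {G : Type u} [Group G]

/-- A linear character as a complex function. -/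
def linFn {N : Subgroup G} (lam : N →* ℂˣ) : N → ℂ := fun n => (lam n : ℂ)

theorem mem_inertia_linFn {N : Subgroup G} [N.Normal] {lam : N →* ℂˣ} {g : G} :
    g ∈ inertia (linFn lam) ↔ ∀ n : N, lam (conjN g n) = lam n :=
  ⟨fun h n => Units.ext (h n), fun h n => congrArg Units.val (h n)⟩

/-- Conjugation action of a subgroup on the linear characters of a normal subgroup. -/
@[reducible]
def dualAction (H N : Subgroup G) [N.Normal] : MulDistribMulAction H (N →* ℂˣ) where
  smul h lam := lam.comp (MulAut.conjNormal (H := N) (h : G)⁻¹).toMonoidHom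
  one_smul lam := MonoidHom.ext fun n => congrArg lam (Subtype.ext (by simp))
  mul_smul a b lam := MonoidHom.ext fun n => congrArg lam (Subtype.ext (by simp [mul_assoc]))
  smul_mul _ _ _ := rfl
  smul_one _ := rfl

theorem dual_smul_apply (H N : Subgroup G) [N.Normal] (h : H) (lam : N →* ℂˣ) (n : N) :
    letI := dualAction H N
    (h • lam) n = lam (conjN (h : G)⁻¹ n) := rfl

theorem mem_stabilizer_dual (H N : Subgroup G) [N.Normal] (h : H) (lam : N →* ℂˣ) :
    letI := dualAction H N
    h ∈ MulAction.stabilizer H lam ↔ (h : G) ∈ inertia (linFn lam) := by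
  letI := dualAction H N
  rw [mem_inertia_linFn, MulAction.mem_stabilizer_iff]
  constructor
  · intro e n
    have h1 := DFunLike.congr_fun e (conjN (h : G) n)
    rw [dual_smul_apply, show conjN (h : G)⁻¹ (conjN (h : G) n) = n from Subtype.ext (by simp [mul_assoc])]
      at h1
    exact h1.symm
  · intro e
    refine MonoidHom.ext fun n => ?_
    rw [dual_smul_apply, ← e (conjN (h : G)⁻¹ n),
      show conjN (h : G) (conjN (h : G)⁻¹ n) = n from Subtype.ext (by simp [mul_assoc])]

theorem finite_linear {N : Type v} [Group N] [Finite N] : Finite (N →* ℂˣ) :=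
  Nat.finite_of_card_ne_zero (by rw [Char.natCard_linear]; exact Subgroup.index_ne_zero_of_finite)

theorem isPGroup_linear {N : Type v} [Group N] [Finite N] {r : ℕ} [Fact r.Prime] (h : IsPGroup r N) :
    IsPGroup r (N →* ℂˣ) := fun lam => by
  obtain ⟨k, hk⟩ := IsPGroup.iff_card.mp h
  refine ⟨k, MonoidHom.ext fun x => ?_⟩
  rw [MonoidHom.pow_apply, ← map_pow, ← hk, pow_card_eq_one', map_one, MonoidHom.one_apply]

theorem exists_linear_sep [Finite G] {g : G} (hg : g ∉ commutator G) :
    ∃ mu : G →* ℂˣ, mu g ≠ 1 := by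
  have : Finite (Abelianization G) := inferInstanceAs (Finite (G ⧸ commutator G))
  obtain ⟨mu, hmu⟩ := Char.exists_linear_ne_one (G := Abelianization G) mul_comm
    (g := Abelianization.of g) (fun e => hg ((QuotientGroup.eq_one_iff g).mp e))
  exact ⟨mu.comp Abelianization.of, hmu⟩

/-- The projection onto a complement. -/
theorem exists_proj {H R : Subgroup G} [R.Normal] (h : H.IsComplement' R) :
    ∃ π : G →* H, π.ker = R ∧ ∀ x : H, π (x : G) = x := by
  have hdis : Disjoint H R := h.disjoint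
  let e := h.QuotientMulEquiv
  have hker : (e.toMonoidHom.comp (QuotientGroup.mk' R)).ker = R := by
    ext x
    rw [MonoidHom.mem_ker, MonoidHom.comp_apply, MulEquiv.coe_toMonoidHom,
      EmbeddingLike.map_eq_one_iff, QuotientGroup.mk'_apply, QuotientGroup.eq_one_iff]
  refine ⟨_, hker, fun x => ?_⟩
  show e (QuotientGroup.mk (x : G)) = x
  apply e.symm.injective
  rw [MulEquiv.symm_apply_apply]
  rfl

variable [Finite G] {R : Subgroup G} [R.Normal] {H : Subgroup G} (π : G →* H) (hπ : π.ker = R)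
  (hπH : ∀ x : H, π (x : G) = x)

include hπH in
theorem proj_surjective : Function.Surjective π := fun x => ⟨x, hπH x⟩

include hπ hπH in
theorem mem_map_inertia {θ : R → ℂ} (hθ : Cfsg.IsClassFunction R θ) {a : H} :
    a ∈ (inertia θ).map π ↔ (a : G) ∈ inertia θ := by
  refine ⟨?_, fun ha => ⟨a, ha, hπH a⟩⟩
  rintro ⟨t, ht, rfl⟩
  have h1 : t⁻¹ * (π t : G) ∈ R := by
    rw [← hπ, MonoidHom.mem_ker, map_mul, map_inv, hπH, inv_mul_cancel]
  have h2 := mul_mem ht (le_inertia hθ h1)
  rwa [mul_inv_cancel_left] at h2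

/-- An irreducible character of a normal Hall subgroup extends to its inertia group. -/
theorem exists_ext_inertia (hcop : (Nat.card R).Coprime R.index) {θ : R → ℂ}
    (hθ : Cfsg.IsIrrCharacter R θ) :
    ∃ Θ : inertia θ → ℂ, Cfsg.IsCharacter (inertia θ) Θ ∧
      ∀ (n : R) (t : inertia θ), (t : G) = n → Θ t = θ n := by
  set I := inertia θ with hI
  have hRI : R ≤ I := le_inertia (Char.irr_isClassFunction hθ)
  let e := Subgroup.subgroupOfEquivOfLe hRI
  have hcop' : (Nat.card (R.subgroupOf I)).Coprime (R.subgroupOf I).index := by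
    rw [Nat.card_congr e.toEquiv]
    exact hcop.coprime_dvd_right (R.relIndex_dvd_index_of_normal I)
  obtain ⟨Θ, hΘ, hext⟩ := ExtendCoprime.exists_extension (R.subgroupOf I) hcop'
    (Char.isIrrCharacter_comp_surjective hθ e.toMonoidHom e.surjective) fun g m => by
      show θ (e (conjN g m)) = θ (e m)
      rw [show e (conjN g m) = conjN (g : G) (e m) from Subtype.ext rfl]
      exact g.2 _
  refine ⟨Θ, Char.irr_isCharacter hΘ, fun n t ht => ?_⟩
  have h1 : (t : G) ∈ R := ht ▸ n.2
  rw [show t = ((⟨t, h1⟩ : R.subgroupOf I) : I) from rfl, hext]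
  exact congrArg θ (Subtype.ext ht)

include hπ hπH in
/-- If `t` divides the degrees over an extendible character, the stabiliser part is prime to `p`. -/
theorem stabSylow_of_ext [Group.IsSolvable G] {p t : ℕ} [hp : Fact p.Prime] [ht : Fact t.Prime]
    (hpt : p ≠ t) (hav : Avoid p t G) {θ : R → ℂ} (hθ : Cfsg.IsIrrCharacter R θ)
    (hext : ∃ Θ : inertia θ → ℂ, Cfsg.IsCharacter (inertia θ) Θ ∧
      ∀ (n : R) (t : inertia θ), (t : G) = n → Θ t = θ n)
    (h : t ∣ (inertia θ).index * Cfsg.charDegree θ) :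
    StabSylow p ((inertia θ).map π) := by
  have hidx : ((inertia θ).map π).index = (inertia θ).index :=
    Subgroup.index_map_eq _ (proj_surjective π hπH)
      (hπ.le.trans (le_inertia (Char.irr_isClassFunction hθ)))
  refine stabSylow_of_primeTo ?_ fun ψ hψ hd => ?_
  · rw [hidx]
    intro hd
    exact hav.not_dvd_index_inertia R hθ
      (((Nat.coprime_primes hp.out ht.out).mpr hpt).mul_dvd_of_dvd_of_dvd (hd.mul_right _) h)
  · obtain ⟨Θ, hΘ, he⟩ := hext
    obtain ⟨χ, hχ, e⟩ := exists_deg_of_complement hθ hΘ he (π.subgroupMap (inertia θ))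
      (π.subgroupMap_surjective _)
      (fun x hx => Subtype.ext (MonoidHom.mem_ker.mp (hπ.symm.le hx))) hψ
    exact hav χ hχ (e ▸ mul_comm t p ▸ mul_dvd_mul h hd)

include hπ hπH in
/-- If `t` divides the degrees over `θ`, the part of the stabiliser is prime to `p`. -/
theorem stabSylow_over [Group.IsSolvable G] {p t : ℕ} [hp : Fact p.Prime] [ht : Fact t.Prime]
    (hpt : p ≠ t) (hav : Avoid p t G) (hcop : (Nat.card R).Coprime R.index) {θ : R → ℂ}
    (hθ : Cfsg.IsIrrCharacter R θ) (h : t ∣ (inertia θ).index * Cfsg.charDegree θ) :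
    StabSylow p ((inertia θ).map π) := by
  exact stabSylow_of_ext π hπ hπH hpt hav hθ (exists_ext_inertia hcop hθ) h

include hπ hπH in
/-- A normal Sylow subgroup of the complement fixes a character with orbit prime to `p`. -/
theorem fixed_of_not_dvd {p : ℕ} [Fact p.Prime] (P : Sylow p H) (hP : (P : Subgroup H).Normal)
    {θ : R → ℂ} (hθ : Cfsg.IsIrrCharacter R θ) (h : ¬ p ∣ (inertia θ).index) :
    ∀ a ∈ (P : Subgroup H), (a : G) ∈ inertia θ := by
  have hcf := Char.irr_isClassFunction hθ
  have hidx : ((inertia θ).map π).index = (inertia θ).index :=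
    Subgroup.index_map_eq _ (proj_surjective π hπH) (hπ.le.trans (le_inertia hcf))
  obtain ⟨P', hP'⟩ := exists_sylow_le (H := H) (p := p) (I := (inertia θ).map π) (by rwa [hidx])
  have e : (P : Subgroup H) = P' :=
    sylow_eq_of_le_normalizer P' P (by
      have e : (P' : Subgroup H) = P :=
        sylow_eq_of_le_normalizer P P' (Subgroup.normalizer_eq_top (H := (P : Subgroup H)) ▸ le_top)
      rw [e]; exact Subgroup.le_normalizer)
  intro a ha
  exact (mem_map_inertia π hπ hπH hcf).mp (hP' (e ▸ ha))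

/-- An irreducible character over an invariant central linear character. -/
theorem exists_theta [Group.IsSolvable G] (R W0 : Subgroup G) [R.Normal] [W0.Normal] (hWR : W0 ≤ R)
    (hc : R ≤ Subgroup.centralizer (W0 : Set G)) (hcop : (Nat.card R).Coprime R.index)
    (lam : W0 →* ℂˣ) :
    ∃ θ : R → ℂ, Cfsg.IsIrrCharacter R θ ∧ inertia θ = inertia (linFn lam) ∧
      ∀ (g : R) (w : W0), θ (g * ⟨w, hWR w.2⟩) = (lam w : ℂ) * θ g := by
  classical
  set I := inertia (linFn lam) with hI
  have hRI : R ≤ I := fun x hx => mem_inertia_linFn.mpr fun n => congrArg lam (Subtype.ext (by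
    rw [coe_conjN, ← Subgroup.mem_centralizer_iff.mp (hc hx) n n.2, mul_inv_cancel_right]))
  let R' := R.subgroupOf I
  let W' := W0.subgroupOf I
  have := Fintype.ofFinite W'
  let eR : R' ≃* R := Subgroup.subgroupOfEquivOfLe hRI
  let eW : W' ≃* W0 := Subgroup.subgroupOfEquivOfLe (hWR.trans hRI)
  have hWR' : W' ≤ R' := fun x hx => hWR hx
  have hcop' : R'.index.Coprime (W'.relIndex R') := by
    rw [Subgroup.relIndex_subgroupOf hRI]
    exact (hcop.symm.coprime_dvd_left (R.relIndex_dvd_index_of_normal I)).coprime_dvd_right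
      (W0.relIndex_dvd_card R)
  obtain ⟨χ, hne, hinv⟩ := InvariantNormal.exists_invariant R' W' hWR' hcop'
    (Or.inl inferInstance) (θ := fun n => (lam (eW n) : ℂ))
    (Char.isIrrCharacter_linear (lam.comp eW.toMonoidHom)) (fun x => funext fun n => by
      have h1 := x.2 (eW n)
      exact h1)
  let θ : R → ℂ := fun x => (χ : R' → ℂ) (eR.symm x)
  have hθ : Cfsg.IsIrrCharacter R θ :=
    Char.isIrrCharacter_comp_surjective χ.2 eR.symm.toMonoidHom eR.symm.surjective
  have hmul : ∀ (g : R) (w : W0), θ (g * ⟨w, hWR w.2⟩) = (lam w : ℂ) * θ g := by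
    intro g w
    let Z : Subgroup R := W0.subgroupOf R
    have := Fintype.ofFinite R
    have := Fintype.ofFinite Z
    let eZ : Z ≃* W0 := Subgroup.subgroupOfEquivOfLe hWR
    have hZ : Z ≤ Subgroup.center R := fun z hz => Subgroup.mem_center_iff.mpr fun y =>
      Subtype.ext (Subgroup.mem_centralizer_iff.mp (hc y.2) z hz).symm
    have hne' : Cfsg.classInner (fun z : Z => θ z) (fun z : Z => ((lam.comp eZ.toMonoidHom) z : ℂ)) ≠
        0 := by
      have h1 := BlockB.OverTheta.classInner_comp_surjective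
        (eW.trans eZ.symm).toMonoidHom (eW.trans eZ.symm).surjective
        (fun z : Z => θ z) (fun z : Z => ((lam.comp eZ.toMonoidHom) z : ℂ))
      rw [← h1]
      have e1 : (fun z : Z => θ z) ∘ (eW.trans eZ.symm).toMonoidHom =
          fun n : W' => (χ : R' → ℂ) ⟨n, hWR' n.2⟩ := funext fun n => rfl
      have e2 : (fun z : Z => ((lam.comp eZ.toMonoidHom) z : ℂ)) ∘ (eW.trans eZ.symm).toMonoidHom =
          fun n : W' => (lam (eW n) : ℂ) := funext fun n => by
        show ((lam (eZ (eZ.symm (eW n))) : ℂˣ) : ℂ) = _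
        rw [MulEquiv.apply_symm_apply]
      rw [e1, e2]
      exact hne
    have h2 := InvariantCentral.apply_mul_of_central Z hZ (lam.comp eZ.toMonoidHom) hθ hne' g
      (eZ.symm w)
    rw [show (((eZ.symm w : Z) : R)) = ⟨w, hWR w.2⟩ from rfl, MonoidHom.comp_apply,
      show eZ.toMonoidHom (eZ.symm w) = w from eZ.apply_symm_apply w] at h2
    exact h2
  refine ⟨θ, hθ, le_antisymm ?_ ?_, hmul⟩
  · intro g hg
    refine mem_inertia_linFn.mpr fun w => Units.ext ?_
    have h1 := hg ⟨w, hWR w.2⟩
    have h2 : ∀ w : W0, θ ⟨w, hWR w.2⟩ = (lam w : ℂ) * θ 1 := fun w => by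
      rw [← hmul, one_mul]
    rw [show conjN g (⟨w, hWR w.2⟩ : R) = ⟨conjN g w, hWR (conjN g w).2⟩ from Subtype.ext rfl,
      h2, h2] at h1
    exact mul_right_cancel₀ (Char.irr_apply_one_ne_zero hθ) h1
  · intro g hg n
    exact hinv ⟨g, hg⟩ (eR.symm n) (eR.symm (conjN g n)) rfl

/-- Every Sylow subgroup being counted once by the vectors. -/
theorem spread_sylow {X : Type u} [Group X] [Finite X] {W : Type v} [CommGroup W] [Finite W]
    [MulDistribMulAction X W] {q : ℕ} [Fact q.Prime] (Q : Sylow q X)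
    (hst : ∀ w : W, w ≠ 1 → StabSylow q (MulAction.stabilizer X w)) :
    (Subgroup.normalizer ((Q : Subgroup X) : Set X)).index *
        (Nat.card (fixW W (Q : Subgroup X)) - 1) = Nat.card W - 1 := by
  have h := spread_count (L := (⊤ : Subgroup X)) (S := (Q : Subgroup X)) {w : W | w ≠ 1}
    (fun g _ w hw e => hw (by simpa using congrArg (g⁻¹ • ·) e))
    (fun w hw => by
      obtain ⟨Q', hQ', -, -⟩ := hst w hw
      obtain ⟨g, rfl⟩ := MulAction.exists_smul_eq X Q Q'
      refine ⟨g, Subgroup.mem_top g, fun a ha => ?_⟩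
      have h1 : g * a * g⁻¹ ∈ ((g • Q : Sylow q X) : Subgroup X) := by
        rw [Sylow.coe_subgroup_smul, ← MulAut.conj_apply]
        exact Subgroup.smul_mem_pointwise_smul _ _ _ ha
      have h2 : (g * a * g⁻¹) • w = w := hQ' h1
      rw [← mul_smul]
      conv_rhs => rw [← h2, ← mul_smul]
      congr 1
      group)
    (fun g _ w hw h1 h2 => mem_normalizer_of_fix Q hst hw h1 h2)
  rw [top_inf_eq, Subgroup.card_top] at h
  have hT : Nat.card {w : W // w ≠ 1} = Nat.card W - 1 := by
    have := card_ne_one (W := W); omega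
  have hF : Nat.card {w : W // w ≠ 1 ∧ w ∈ fixW W (Q : Subgroup X)} =
      Nat.card (fixW W (Q : Subgroup X)) - 1 := by
    have := card_diff_one (U := fixW W (Q : Subgroup X)); omega
  change Nat.card {w : W // w ≠ 1} * _ = _ * Nat.card {w : W // w ≠ 1 ∧ w ∈ fixW W _} at h
  rw [hT, hF, ← Subgroup.index_mul_card (Subgroup.normalizer ((Q : Subgroup X) : Set X))] at h
  exact Nat.eq_of_mul_eq_mul_left Nat.card_pos (by linear_combination -h)

/-- A coprime operator group centralising `R` modulo its derived group centralises `R`. -/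
theorem coprime_centralizes [Group.IsSolvable G] (R P : Subgroup G) [R.Normal]
    [Group.IsNilpotent R] (hcop : (Nat.card P).Coprime (Nat.card R))
    (h : ∀ a ∈ P, ∀ x ∈ R, ⁅x, a⁆ ∈ ⁅R, R⁆) : P ≤ Subgroup.centralizer (R : Set G) := by
  have hA : P ≤ Subgroup.normalizer (R : Set G) := by rw [Subgroup.normalizer_eq_top]; exact le_top
  have hle : ⁅R, R⁆ ≤ R := Subgroup.commutator_le_right R R
  have hCR : R ≤ ⁅R, R⁆ ⊔ (R ⊓ Subgroup.centralizer (P : Set G)) := by
    intro x hx
    obtain ⟨n, hn, hc⟩ := Coprime.exists_mem_centralizer_of_coset hA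
      (by rw [Subgroup.normalizer_eq_top]; exact le_top) hle hcop (Or.inl inferInstance) hx
      fun a ha => by
        have h1 := h a ha x⁻¹ (inv_mem hx)
        rw [commutatorElement_def, inv_inv] at h1
        exact h1
    rw [show x = x * n * n⁻¹ by group]
    exact mul_mem (Subgroup.mem_sup_right ⟨mul_mem hx (hle hn), hc⟩)
      (Subgroup.mem_sup_left (inv_mem hn))
  have htop : (R ⊓ Subgroup.centralizer (P : Set G)).subgroupOf R ⊔ frattini R = ⊤ := by
    refine top_le_iff.mp fun x _ => ?_
    have : ∀ y, y ∈ ⁅R, R⁆ ⊔ (R ⊓ Subgroup.centralizer (P : Set G)) → ∀ hy : y ∈ R,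
        (⟨y, hy⟩ : R) ∈ (R ⊓ Subgroup.centralizer (P : Set G)).subgroupOf R ⊔ frattini R := by
      intro y hy hyR
      obtain ⟨n, hn, c, hc, rfl⟩ := Subgroup.mem_sup_of_normal_left.mp hy
      rw [show (⟨n * c, hyR⟩ : R) = ⟨n, hle hn⟩ * ⟨c, hc.1⟩ from rfl]
      refine mul_mem (Subgroup.mem_sup_right (Solvable.commutator_le_frattini ?_))
        (Subgroup.mem_sup_left (Subgroup.mem_subgroupOf.mpr hc))
      rw [← R.map_subtype_commutator] at hn
      obtain ⟨m, hm, e⟩ := hn
      exact (show m = ⟨n, _⟩ from Subtype.ext e) ▸ hm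
    exact this x (hCR x.2) x.2
  have hC := frattini_nongenerating htop
  intro a ha
  refine Subgroup.mem_centralizer_iff.mpr fun x hx => ?_
  have h1 := (Subgroup.mem_subgroupOf.mp (hC.ge (Subgroup.mem_top (⟨x, hx⟩ : R)))).2
  exact (Subgroup.mem_centralizer_iff.mp h1 a ha).symm

/-- A Sylow subgroup, normal modulo a normal subgroup, is conjugated by that subgroup. -/
theorem exists_conj_of_sup_normal {p : ℕ} [Fact p.Prime] (P P' : Sylow p G) (N : Subgroup G)
    [N.Normal] (hn : (N ⊔ (P : Subgroup G)).Normal) :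
    ∃ x ∈ N, ∀ b ∈ (P : Subgroup G), x * b * x⁻¹ ∈ (P' : Subgroup G) :=
  conj_sylow_mem P P' (le_sup_right : _ ≤ N ⊔ (P : Subgroup G))
    (sylow_le_of_normal P P' le_sup_right) fun k hk => by
      obtain ⟨n, hn', a, ha, e⟩ := Subgroup.mem_sup_of_normal_left.mp hk
      exact ⟨n, hn', a, Subgroup.le_normalizer ha, e.symm⟩

/-- A Sylow subgroup, normal modulo a normal subgroup it centralises, is normal. -/
theorem normal_of_centralized {p : ℕ} [Fact p.Prime] (P : Sylow p G) (N : Subgroup G) [N.Normal]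
    (hn : (N ⊔ (P : Subgroup G)).Normal)
    (hcen : N ≤ Subgroup.centralizer ((P : Subgroup G) : Set G)) : (P : Subgroup G).Normal := by
  rw [← Subgroup.normalizer_eq_top_iff, Subgroup.eq_top_iff']
  intro g
  obtain ⟨x, hx, hxb⟩ := exists_conj_of_sup_normal P (g • P) N hn
  refine Sylow.smul_eq_iff_mem_normalizer.mp ?_
  have hle : (P : Subgroup G) ≤ ((g • P : Sylow p G) : Subgroup G) := fun b hb => by
    have h1 := hxb b hb
    rwa [← Subgroup.mem_centralizer_iff.mp (hcen hx) b hb, mul_inv_cancel_right] at h1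
  exact Sylow.ext (P.3 (g • P).2 hle)

/-- An abelian Sylow subgroup, normal modulo a normal subgroup it centralises, is normal. -/
theorem primeTo_of_centralized {p : ℕ} [Fact p.Prime] (P : Sylow p G) (N : Subgroup G) [N.Normal]
    (hn : (N ⊔ (P : Subgroup G)).Normal)
    (hcen : N ≤ Subgroup.centralizer ((P : Subgroup G) : Set G))
    (hc : ∀ x ∈ (P : Subgroup G), ∀ y ∈ (P : Subgroup G), x * y = y * x) :
    Degrees.PrimeTo p G := by
  exact primeTo_of_sylow P (normal_of_centralized P N hn hcen) hc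

end CfsgLib.BlockB.Palfy
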